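import Cfsg.Agent.Lib.Char.Burnside

/-!
A solvable group meets an orbit of a commuting perfect group in at least five orbits.
-/

set_option autoImplicit false
set_option linter.unusedSectionVars false
set_option linter.style.haveILetI false

namespace Cfsg.Agent.Solv.Triple

universe u v w

theorem solvable_perm_four {α : Type*} [Fintype α] [DecidableEq α] (h : Fintype.card α ≤ 4) :
    Group.IsSolvable (Equiv.Perm α) := by
  refine Cfsg.Agent.Char.isSolvable_of_two_primes Nat.prime_two Nat.prime_three _ rfl fun r hr hdvd => ?_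
  rw [Nat.card_eq_fintype_card, Fintype.card_perm] at hdvd
  have hle : r ≤ 4 := (hr.dvd_factorial).mp (hdvd.trans (Nat.factorial_dvd_factorial h))
  have := hr.two_le
  interval_cases r <;> simp_all (config := { decide := true })

variable {Γ : Type w} [Group Γ]

/-- Every element of the set is a commutator of two elements of the set. -/
def PerfectSet (S : Set Γ) : Prop := ∀ s ∈ S, ∃ a ∈ S, ∃ b ∈ S, s = a * b * a⁻¹ * b⁻¹

/-- A homomorphism into a solvable group kills a perfect set. -/
theorem PerfectSet.map_eq_one {S : Set Γ} (hS : PerfectSet S) {T : Subgroup Γ} (hST : ∀ s ∈ S, s ∈ T)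
    {G : Type u} [Group G] (hG : Group.IsSolvable G) (φ : T →* G) :
    ∀ s (hs : s ∈ S), φ ⟨s, hST s hs⟩ = 1 := by
  obtain ⟨n, hn⟩ := (Group.isSolvable_def G).1 hG
  have key : ∀ k, ∀ s (hs : s ∈ S), φ ⟨s, hST s hs⟩ ∈ derivedSeries G k := by
    intro k
    induction k with
    | zero => exact fun s hs => Subgroup.mem_top _
    | succ k ih =>
      intro s hs
      obtain ⟨a, ha, b, hb, e⟩ := hS s hs
      have h1 : (⟨s, hST s hs⟩ : T) =
          ⟨a, hST a ha⟩ * ⟨b, hST b hb⟩ * (⟨a, hST a ha⟩)⁻¹ * (⟨b, hST b hb⟩)⁻¹ := Subtype.ext e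
      rw [h1, map_mul, map_mul, map_mul, map_inv, map_inv, derivedSeries_succ]
      exact Subgroup.commutator_mem_commutator (ih a ha) (ih b hb)
  intro s hs
  have := key n s hs
  rwa [hn, Subgroup.mem_bot] at this

/-- Five inequivalent points in an orbit of a perfect group commuting with a solvable group. -/
theorem five_inequivalent {H : Type u} [Group H] (hH : Group.IsSolvable H) {X : Type v} [MulAction H X]
    [MulAction Γ X] (hcomm : ∀ (γ : Γ) (h : H) (y : X), γ • h • y = h • γ • y)
    {S : Set Γ} (hS : PerfectSet S) {x : X}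
    (hx : ∀ h : H, h • x = x → ∀ y : X, h • y = y) (hmove : ∃ s ∈ S, s • x ≠ x) :
    ∃ d : Fin 5 → X, (∀ i, ∃ γ : Γ, γ • x = d i) ∧
      ∀ i j, ∀ h : H, h • d i = d j → i = j := by
  classical
  let X' := Quotient (MulAction.orbitRel H X)
  letI : MulAction Γ X' :=
    { smul := fun γ q => Quotient.map' (γ • ·) (fun a b hab => by
        obtain ⟨h, hh⟩ := (hab : MulAction.orbitRel H X a b)
        exact ⟨h, by show h • γ • b = γ • a; rw [← hcomm, ← hh]⟩) q
      one_smul := fun q => Quotient.inductionOn' q fun a => congrArg Quotient.mk'' (one_smul Γ a)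
      mul_smul := fun γ δ q => Quotient.inductionOn' q fun a =>
        congrArg Quotient.mk'' (mul_smul γ δ a) }
  let q0 : X' := Quotient.mk'' x
  rcases (MulAction.orbit Γ q0).finite_or_infinite with hfin | hinf
  swap
  · let f := hinf.natEmbedding
    choose γ hγ using fun i : Fin 5 => ((f i.val).2 : ∃ γ : Γ, γ • q0 = (f i.val : X'))
    refine ⟨fun i => γ i • x, fun i => ⟨γ i, rfl⟩, fun i j h e => ?_⟩
    have h1 : (f i.val : X') = f j.val := by
      rw [← hγ, ← hγ]
      exact (Quotient.sound' (s₁ := MulAction.orbitRel H X) ⟨h, e⟩).symm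
    exact Fin.val_injective (f.injective (Subtype.ext h1))
  haveI := hfin.fintype
  by_cases h5 : 5 ≤ Fintype.card (MulAction.orbit Γ q0)
  · obtain ⟨f⟩ : Nonempty (Fin 5 ↪ MulAction.orbit Γ q0) :=
      Function.Embedding.nonempty_of_card_le (by rw [Fintype.card_fin]; exact h5)
    choose γ hγ using fun i : Fin 5 => ((f i).2 : ∃ γ : Γ, γ • q0 = (f i : X'))
    refine ⟨fun i => γ i • x, fun i => ⟨γ i, rfl⟩, fun i j h e => ?_⟩
    have h1 : (f i : X') = f j := by
      rw [← hγ, ← hγ]
      exact (Quotient.sound' (s₁ := MulAction.orbitRel H X) ⟨h, e⟩).symm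
    exact f.injective (Subtype.ext h1)
  -- few orbits: the perfect set fixes the orbit of `x`
  exfalso
  have hsolv : Group.IsSolvable (Equiv.Perm (MulAction.orbit Γ q0)) := solvable_perm_four (by omega)
  have hfix : ∀ s ∈ S, s • q0 = q0 := fun s hs => by
    have h1 := hS.map_eq_one (T := ⊤) (fun s _ => Subgroup.mem_top s) hsolv
      ((MulAction.toPermHom Γ (MulAction.orbit Γ q0)).comp (Subgroup.topEquiv (G := Γ)).toMonoidHom) s hs
    exact congrArg Subtype.val (Equiv.congr_fun h1 ⟨q0, MulAction.mem_orbit_self _⟩)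
  -- lift to the acting group
  let K : Subgroup H :=
    { carrier := {h | ∀ y : X, h • y = y}
      one_mem' := one_smul H
      mul_mem' := fun {a b} ha hb y => by rw [mul_smul, hb, ha]
      inv_mem' := fun {a} ha y => by rw [inv_smul_eq_iff, ha] }
  haveI : K.Normal := ⟨fun n hn g y => by rw [mul_smul, mul_smul, hn (g⁻¹ • y), smul_inv_smul]⟩
  let T : Subgroup Γ :=
    { carrier := {γ | ∃ h : H, h • x = γ⁻¹ • x}
      one_mem' := ⟨1, by rw [one_smul, inv_one, one_smul]⟩
      mul_mem' := fun {a b} ⟨ha, hha⟩ ⟨hb, hhb⟩ => ⟨ha * hb, by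
        rw [mul_smul, hhb, ← hcomm, hha, mul_inv_rev, mul_smul]⟩
      inv_mem' := fun {a} ⟨ha, hha⟩ => ⟨ha⁻¹, by
        rw [inv_smul_eq_iff, ← hcomm, hha, inv_inv, smul_inv_smul]⟩ }
  have huniq : ∀ h h' : H, h • x = h' • x → (h : H ⧸ K) = h' := fun h h' e =>
    QuotientGroup.eq.2 (hx _ (by rw [mul_smul, ← e, inv_smul_smul]))
  choose g hg using fun t : T => (t.2 : ∃ h : H, h • x = (t : Γ)⁻¹ • x)
  let φ : T →* H ⧸ K :=
    { toFun := fun t => (g t : H ⧸ K)
      map_one' := huniq _ 1 (by rw [hg, one_smul, Subgroup.coe_one, inv_one, one_smul])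
      map_mul' := fun a b => huniq _ (g a * g b) (by
        rw [hg, mul_smul, hg b, ← hcomm, hg a, Subgroup.coe_mul, mul_inv_rev, mul_smul]) }
  have hST : ∀ s ∈ S, s ∈ T := fun s hs => by
    obtain ⟨h, hh⟩ := (Quotient.exact' (hfix s hs) : MulAction.orbitRel H X (s • x) x)
    change h • x = s • x at hh
    refine ⟨h⁻¹, ?_⟩
    rw [inv_smul_eq_iff, ← hcomm, hh, inv_smul_smul]
  obtain ⟨s, hs, hne⟩ := hmove
  haveI := hH
  have h1 := hS.map_eq_one hST
    (Group.isSolvable_of_surjective (f := QuotientGroup.mk' K) (QuotientGroup.mk'_surjective K)) φ s hs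
  have h2 : g ⟨s, hST s hs⟩ ∈ K := (QuotientGroup.eq_one_iff _).1 h1
  have h3 := hg ⟨s, hST s hs⟩
  rw [h2 x] at h3
  exact hne (eq_inv_smul_iff.1 h3)

end Cfsg.Agent.Solv.Triple
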