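import Mathlib

/-!
A four-colouring of a finite abelian group preserved by no non-trivial automorphism, and a power formula.
-/

set_option autoImplicit false
set_option linter.unusedSectionVars false

namespace Cfsg.Agent.Solv.Triple

universe u

theorem rigid_pi {ι : Type} [Fintype ι] [DecidableEq ι] (n : ι → ℕ) [∀ i, NeZero (n i)]
    (hn : ∀ i, 1 < n i) :
    ∃ col : (∀ i, ZMod (n i)) → Fin 4, ∀ θ : (∀ i, ZMod (n i)) ≃+ (∀ i, ZMod (n i)),
      (∀ u, u ≠ 0 → col (θ u) = col u) → ∀ u, θ u = u := by
  classical
  haveI : ∀ i, Fact (1 < n i) := fun i => ⟨hn i⟩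
  let k := Fintype.equivFin ι
  let e : ι → (∀ i, ZMod (n i)) := fun i => Pi.single i 1
  let P : ℕ → (∀ i, ZMod (n i)) := fun j i => if (k i : ℕ) ≤ j then 1 else 0
  let isC : (∀ i, ZMod (n i)) → Prop := fun u => ∃ i, (k i : ℕ) = 0 ∧ u = e i
  let isA : (∀ i, ZMod (n i)) → Prop := fun u => ∃ i, (k i : ℕ) ≠ 0 ∧ u = e i
  let isB : (∀ i, ZMod (n i)) → Prop := fun u => ∃ j, 1 ≤ j ∧ j < Fintype.card ι ∧ u = P j
  let col : (∀ i, ZMod (n i)) → Fin 4 := fun u =>
    if isC u then 0 else if isA u then 1 else if isB u then 2 else 3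
  have he_inj : Function.Injective e := fun i j h => by
    by_contra hne
    have h1 := congrFun h i
    simp only [e, Pi.single_eq_same, Pi.single_eq_of_ne hne] at h1
    exact one_ne_zero h1
  have hPe : ∀ j i, 1 ≤ j → j < Fintype.card ι → P j ≠ e i := by
    intro j i hj hjc h
    let i0 := k.symm ⟨0, by omega⟩
    let i1 := k.symm ⟨1, by omega⟩
    have key : ∀ l : ι, (k l : ℕ) ≤ j → l = i := by
      intro l hl
      by_contra hne
      have h1 := congrFun h l
      simp only [P, if_pos hl, e, Pi.single_eq_of_ne hne] at h1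
      exact one_ne_zero h1
    have h0 := key i0 (by simp [i0])
    have h1 := key i1 (by simpa [i1] using hj)
    have h2 := congrArg k (h0.trans h1.symm)
    simp [i0, i1, Fin.ext_iff] at h2
  refine ⟨col, fun θ hθ => ?_⟩
  have hne0 : ∀ i, e i ≠ 0 := fun i h => by
    have := congrFun h i
    simp only [e, Pi.single_eq_same] at this
    exact one_ne_zero this
  have colC : ∀ u, col u = 0 ↔ isC u := fun u => by
    by_cases h : isC u
    · simp [col, h]
    · simp only [col, if_neg h]
      refine ⟨fun hh => ?_, fun hh => absurd hh h⟩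
      split_ifs at hh <;> simp at hh
  have colA : ∀ u, col u = 1 → isA u := fun u hu => by
    simp only [col] at hu
    split_ifs at hu with h1 h2 h3
    all_goals first | exact h2 | simp at hu
  have colB : ∀ u, col u = 2 → isB u := fun u hu => by
    simp only [col] at hu
    split_ifs at hu with h1 h2 h3
    all_goals first | exact h3 | simp at hu
  have hC : ∀ i, (k i : ℕ) = 0 → θ (e i) = e i := by
    intro i hi
    obtain ⟨j, hj, hje⟩ := (colC _).1 ((hθ _ (hne0 i)).trans ((colC _).2 ⟨i, hi, rfl⟩))
    rw [hje, show j = i from k.injective (Fin.ext (hj.trans hi.symm))]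
  have hA : ∀ i, ∃ j, θ (e i) = e j := by
    intro i
    by_cases hi : (k i : ℕ) = 0
    · exact ⟨i, hC i hi⟩
    · have h1 : col (e i) = 1 := by
        have hnC : ¬isC (e i) := fun ⟨j, hj, hje⟩ => hi (by rw [he_inj hje]; exact hj)
        simp only [col, if_neg hnC, if_pos (show isA (e i) from ⟨i, hi, rfl⟩)]
      obtain ⟨j, -, hje⟩ := colA _ ((hθ _ (hne0 i)).trans h1)
      exact ⟨j, hje⟩
  choose π hπ using hA
  have hπinj : Function.Injective π := fun i i' h => he_inj (θ.injective (by rw [hπ, hπ, h]))
  have hPsum : ∀ j, P j = ∑ i ∈ Finset.univ.filter (fun i => (k i : ℕ) ≤ j), e i := by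
    intro j
    funext l
    rw [Finset.sum_apply, Finset.sum_pi_single l (fun i => (1 : ZMod (n i)))]
    simp [P]
  have hPfix : ∀ j, j < Fintype.card ι → θ (P j) = P j := by
    intro j hjc
    rcases Nat.eq_zero_or_pos j with rfl | hj
    · have h0 : P 0 = e (k.symm ⟨0, hjc⟩) := by
        funext l
        by_cases hl : l = k.symm ⟨0, hjc⟩
        · subst hl; simp [P, e]
        · have : ¬((k l : ℕ) ≤ 0) := fun h => hl (k.injective (Fin.ext (by simp; omega)))
          simp [P, e, Pi.single_eq_of_ne hl, this]
      rw [h0]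
      exact hC _ (by simp)
    have hP0 : P j ≠ 0 := fun h => by
      have := congrFun h (k.symm ⟨0, by omega⟩)
      simp [P] at this
    have h2 : col (P j) = 2 := by
      have hnC : ¬isC (P j) := fun ⟨i, _, h⟩ => hPe j i hj hjc h
      have hnA : ¬isA (P j) := fun ⟨i, _, h⟩ => hPe j i hj hjc h
      simp only [col, if_neg hnC, if_neg hnA, if_pos (show isB (P j) from ⟨j, hj, hjc, rfl⟩)]
    obtain ⟨j', -, hj'c, he'⟩ := colB _ ((hθ _ hP0).trans h2)
    have h3 : θ (P j) = fun l => if l ∈ (Finset.univ.filter fun i => (k i : ℕ) ≤ j).image π then 1 else 0 := by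
      rw [hPsum, map_sum, Finset.sum_congr rfl fun i _ => hπ i,
        ← Finset.sum_image (g := π) fun a _ b _ h => hπinj h]
      funext l
      rw [Finset.sum_apply, Finset.sum_pi_single l (fun i => (1 : ZMod (n i)))]
    have hset : (Finset.univ.filter fun i => (k i : ℕ) ≤ j).image π =
        Finset.univ.filter fun i => (k i : ℕ) ≤ j' := by
      ext l
      have h4 := congrFun (h3.symm.trans he') l
      simp only [P] at h4
      rw [Finset.mem_filter]
      split_ifs at h4 with a b b
      · exact iff_of_true a ⟨Finset.mem_univ _, b⟩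
      · exact absurd h4 one_ne_zero
      · exact absurd h4.symm one_ne_zero
      · exact iff_of_false a fun h => b h.2
    have hcnt : ∀ j, j < Fintype.card ι →
        (Finset.univ.filter fun i => (k i : ℕ) ≤ j).card = j + 1 := by
      intro j hj
      rw [← Finset.card_map k.toEmbedding,
        show (Finset.univ.filter fun i => (k i : ℕ) ≤ j).map k.toEmbedding = Finset.Iic ⟨j, hj⟩ by
          ext l
          simp only [Finset.mem_map_equiv, Finset.mem_filter, Finset.mem_univ, true_and, Finset.mem_Iic,
            Equiv.apply_symm_apply]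
          rw [Fin.le_def], Fin.card_Iic]
    have h5 := congrArg Finset.card hset
    rw [Finset.card_image_of_injective _ hπinj, hcnt j hjc, hcnt j' hj'c] at h5
    rw [he', show j' = j by omega]
  have hfix : ∀ i, θ (e i) = e i := by
    intro i
    rcases Nat.eq_zero_or_pos (k i : ℕ) with h0 | h0
    · exact hC i h0
    have hd : e i = P (k i) - P ((k i : ℕ) - 1) := by
      funext l
      by_cases hl : l = i
      · subst hl
        have : ¬((k l : ℕ) ≤ (k l : ℕ) - 1) := by omega
        simp [e, P, this]
      · have hne : (k l : ℕ) ≠ k i := fun h => hl (k.injective (Fin.ext h))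
        simp only [e, Pi.single_eq_of_ne hl, P, Pi.sub_apply]
        by_cases h : (k l : ℕ) ≤ k i
        · rw [if_pos h, if_pos (by omega), sub_self]
        · rw [if_neg h, if_neg (by omega), sub_self]
    have hlt : (k i : ℕ) < Fintype.card ι := (k i).2
    rw [hd, map_sub, hPfix _ hlt, hPfix _ (by omega)]
  intro u
  rw [← Finset.univ_sum_single u, map_sum]
  refine Finset.sum_congr rfl fun i _ => ?_
  have h1 : Pi.single i (u i) = (u i).val • e i := by
    funext l
    by_cases hl : l = i
    · subst hl; simp [e]
    · simp [e, Pi.single_eq_of_ne hl]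
  rw [h1, map_nsmul, hfix]

/-- A finite abelian group has a four-colouring no non-trivial automorphism preserves. -/
theorem rigid_colouring (D : Type u) [CommGroup D] [Finite D] :
    ∃ col : D → Fin 4, ∀ θ : D ≃* D, (∀ u, u ≠ 1 → col (θ u) = col u) → ∀ u, θ u = u := by
  classical
  obtain ⟨ι, hι, n, hn, ⟨φ⟩⟩ := CommGroup.equiv_prod_multiplicative_zmod_of_finite D
  haveI := hι
  haveI : ∀ i, NeZero (n i) := fun i => ⟨by have := hn i; omega⟩
  obtain ⟨col, hcol⟩ := rigid_pi n hn
  let down : D → (∀ i, ZMod (n i)) := fun u i => Multiplicative.toAdd (φ u i)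
  let up : (∀ i, ZMod (n i)) → D := fun a => φ.symm fun i => Multiplicative.ofAdd (a i)
  have hdu : ∀ a, down (up a) = a := fun a => funext fun i => by simp [down, up]
  have hud : ∀ u, up (down u) = u := fun u => by simp [down, up]
  have hmul : ∀ u v, down (u * v) = down u + down v := fun u v => funext fun i => by simp [down]
  refine ⟨fun u => col (down u), fun θ hθ u => ?_⟩
  let θ' : (∀ i, ZMod (n i)) ≃+ (∀ i, ZMod (n i)) :=
    { toFun := fun a => down (θ (up a))
      invFun := fun a => down (θ.symm (up a))
      left_inv := fun a => by simp only [hud, MulEquiv.symm_apply_apply, hdu]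
      right_inv := fun a => by simp only [hud, MulEquiv.apply_symm_apply, hdu]
      map_add' := fun a b => by
        rw [← hmul, ← map_mul]
        congr 2
        rw [← hud (up a * up b), hmul, hdu, hdu] }
  have h := hcol θ' (fun a ha => by
    show col (down (θ (up a))) = col a
    conv_rhs => rw [← hdu a]
    refine hθ _ fun h => ha ?_
    rw [← hdu a, h]
    exact funext fun i => by simp [down]) (down u)
  have h' : down (θ (up (down u))) = down u := h
  rw [hud] at h'
  rw [← hud (θ u), h', hud]

/-- The power of a product of two elements with central commutator. -/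
theorem mul_pow_of_central {G : Type u} [Group G] {a b w : G} (h : b * a = w * a * b)
    (ha : Commute w a) (hb : Commute w b) (l : ℕ) : (a * b) ^ l = w ^ l.choose 2 * a ^ l * b ^ l := by
  have hk : ∀ k : ℕ, b ^ k * a = w ^ k * a * b ^ k := by
    intro k
    induction k with
    | zero => simp
    | succ k ih =>
      calc b ^ (k + 1) * a = b * (b ^ k * a) := by rw [pow_succ']; group
        _ = (b * w ^ k) * a * b ^ k := by rw [ih]; group
        _ = w ^ k * (b * a) * b ^ k := by rw [← (hb.pow_left k).eq]; group
        _ = w ^ (k + 1) * a * b ^ (k + 1) := by rw [h, pow_succ, pow_succ']; group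
  induction l with
  | zero => simp
  | succ l ih =>
    calc (a * b) ^ (l + 1) = w ^ l.choose 2 * a ^ l * (b ^ l * a) * b := by rw [pow_succ, ih]; group
      _ = w ^ l.choose 2 * (a ^ l * w ^ l) * a * b ^ l * b := by rw [hk]; group
      _ = w ^ l.choose 2 * w ^ l * (a ^ l * a) * (b ^ l * b) := by
        rw [← (ha.pow_pow l l).eq]; group
      _ = w ^ (l + 1).choose 2 * a ^ (l + 1) * b ^ (l + 1) := by
        have hc : (l + 1).choose 2 = l.choose 2 + l := by
          rw [Nat.choose_succ_succ', Nat.choose_one_right, add_comm]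
        rw [← pow_succ, ← pow_succ, ← pow_add, hc]

end Cfsg.Agent.Solv.Triple
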