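import Cfsg.Agent.Lib.Solv.Triple.Prim

/-!
Bases of size three for completely reducible solvable groups.
-/

set_option autoImplicit false
set_option linter.unusedSectionVars false
set_option linter.style.haveILetI false

namespace Cfsg.Agent.Solv.Triple

open Cfsg.Agent.Solv.OddPair (CR subAct quotAct kerV quot_faithful cr_sub imgRing sys_or_field)

universe u v

theorem base3_of_quot {A : Type u} {V : Type v} [Group A] [AddCommGroup V] [DistribMulAction A V]
    (h : letI := quotAct (A := A) (V := V); Base3 (A ⧸ kerV A V) V) : Base3 A V := by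
  obtain ⟨v, hv⟩ := h
  exact ⟨v, fun a ha => hv (a : A ⧸ kerV A V) ha⟩

theorem base3_of_compl {A : Type u} {V : Type v} [Group A] [AddCommGroup V] [DistribMulAction A V]
    {U W : AddSubgroup V} (hU : ∀ a : A, ∀ x ∈ U, a • x ∈ U)
    (hW : ∀ a : A, ∀ x ∈ W, a • x ∈ W) (hd : U ⊓ W = ⊥) (hs : U ⊔ W = ⊤)
    (bU : letI := subAct U hU; Base3 A U) (bW : letI := subAct W hW; Base3 A W) : Base3 A V := by
  obtain ⟨v, hv⟩ := bU
  obtain ⟨w, hw⟩ := bW
  refine ⟨fun i => (v i : V) + w i, fun a ha x => ?_⟩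
  have key : ∀ i, a • (v i : V) = v i ∧ a • (w i : V) = w i := by
    intro i
    have hpq := ha i
    rw [smul_add] at hpq
    have h0 : a • (v i : V) - v i ∈ U ⊓ W :=
      AddSubgroup.mem_inf.2 ⟨U.sub_mem (hU a _ (v i).2) (v i).2, by
        rw [show a • (v i : V) - v i = (w i : V) - a • (w i : V) by
          rw [sub_eq_sub_iff_add_eq_add, hpq, add_comm]]
        exact W.sub_mem (w i).2 (hW a _ (w i).2)⟩
    rw [hd, AddSubgroup.mem_bot, sub_eq_zero] at h0
    rw [h0] at hpq
    exact ⟨h0, add_left_cancel hpq⟩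
  have hx : x ∈ U ⊔ W := hs ▸ AddSubgroup.mem_top x
  obtain ⟨p, hp, q, hq, rfl⟩ := AddSubgroup.mem_sup.1 hx
  rw [smul_add,
    show a • p = p from congrArg Subtype.val (hv a (fun i => Subtype.ext (key i).1) ⟨p, hp⟩),
    show a • q = q from congrArg Subtype.val (hw a (fun i => Subtype.ext (key i).2) ⟨q, hq⟩)]

theorem pb3_all (n : ℕ) : PB3.{v} n := by
  induction n with
  | zero =>
    intro A V _ _ _ _ _ _ _ h
    have := Nat.card_pos (α := V)
    omega
  | succ n ih =>
    intro A V _ _ _ _ _ hA hcr hV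
    rcases subsingleton_or_nontrivial V with hs | hnt
    · exact ⟨fun _ => 0, fun a _ x => Subsingleton.elim _ _⟩
    by_cases hirr : ∀ U : AddSubgroup V, (∀ a : A, ∀ x ∈ U, a • x ∈ U) → U = ⊥ ∨ U = ⊤
    · refine base3_of_quot ?_
      letI := quotAct (A := A) (V := V)
      haveI := hA
      have hQ : Group.IsSolvable (A ⧸ kerV A V) :=
        Group.isSolvable_of_surjective (f := QuotientGroup.mk' (kerV A V)) (QuotientGroup.mk'_surjective _)
      have hirr' : ∀ U : AddSubgroup V, (∀ a : A ⧸ kerV A V, ∀ x ∈ U, a • x ∈ U) → U = ⊥ ∨ U = ⊤ :=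
        fun U hU => hirr U fun a x hx => hU (a : A ⧸ kerV A V) x hx
      by_cases hfield : ∀ N : Subgroup (A ⧸ kerV A V), N.Normal → (∀ x ∈ N, ∀ y ∈ N, Commute x y) →
          ∀ b ∈ imgRing V N, ∀ x : V, x ≠ 0 → b x = 0 → b = 0
      · exact primitive3 hQ quot_faithful hfield
      · push Not at hfield
        obtain ⟨N, hN, hNc, b, hb, x, hx, hbx, hb0⟩ := hfield
        obtain ⟨W0, e, h0, h1, h2, hm⟩ :=
          (sys_or_field hirr' hN hNc).resolve_right fun h => hb0 (h b hb x hx hbx)
        exact base3_of_blocks ih hV hQ hirr' W0 h0 e h1 h2 hm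
    · push Not at hirr
      obtain ⟨U, hU, hU0, hU1⟩ := hirr
      obtain ⟨W, hW, hd, hs⟩ := hcr U hU
      have hW1 : W ≠ ⊤ := fun h => hU0 (by rwa [h, inf_top_eq] at hd)
      have hsmall : ∀ X : AddSubgroup V, X ≠ ⊤ → Nat.card X ≤ n := fun X hX => by
        have h1 : Nat.card X ≠ Nat.card V := fun h => hX (AddSubgroup.eq_top_of_card_eq _ h)
        have h2 : Nat.card X ≤ Nat.card V := Finite.card_subtype_le _
        omega
      refine base3_of_compl hU hW hd hs ?_ ?_
      · letI := subAct U hU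
        exact ih A U hA (cr_sub hcr U hU) (hsmall U hU1)
      · letI := subAct W hW
        exact ih A W hA (cr_sub hcr W hW) (hsmall W hW1)

/-- The three-vector theorem with the universes free. -/
theorem base3_solvable {A : Type u} {V : Type v} [Group A] [AddCommGroup V] [Finite V]
    [DistribMulAction A V] (hA : Group.IsSolvable A) (hcr : CR A V) : Base3 A V := by
  let ρ := MulAction.toPermHom A V
  letI : DistribMulAction ρ.range V :=
    { smul := fun e x => (e : Equiv.Perm V) x
      one_smul := fun x => rfl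
      mul_smul := fun e f x => rfl
      smul_zero := fun e => by
        obtain ⟨a, ha⟩ := e.2
        show (e : Equiv.Perm V) 0 = 0
        rw [← ha]; exact smul_zero a
      smul_add := fun e x y => by
        obtain ⟨a, ha⟩ := e.2
        show (e : Equiv.Perm V) (x + y) = (e : Equiv.Perm V) x + (e : Equiv.Perm V) y
        rw [← ha]; exact smul_add a x y }
  have hcr' : CR ρ.range V := by
    intro U hU
    obtain ⟨W, hW, hd⟩ := hcr U fun a x hx => hU (ρ.rangeRestrict a) x hx
    refine ⟨W, fun e x hx => ?_, hd⟩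
    obtain ⟨a, rfl⟩ := ρ.rangeRestrict_surjective e
    exact hW a x hx
  haveI := hA
  obtain ⟨v, h⟩ := pb3_all (Nat.card V) ρ.range V
    (Group.isSolvable_of_surjective (f := ρ.rangeRestrict) ρ.rangeRestrict_surjective) hcr' le_rfl
  exact ⟨v, fun a ha => h (ρ.rangeRestrict a) ha⟩

end Cfsg.Agent.Solv.Triple
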