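import Cfsg.Agent.Lib.Solv.Triple.Blocks
import Cfsg.Agent.Lib.Solv.Triple.Rigid
import Cfsg.Agent.Lib.Solv.OddPair.Fixed
import Cfsg.Agent.Lib.Solv.OddPair.Extra

/-!
Three vectors in the quasi-primitive case: a monomial frame.
-/

set_option autoImplicit false
set_option linter.unusedSectionVars false
set_option linter.style.haveILetI false
set_option maxHeartbeats 1600000

namespace Cfsg.Agent.Solv.Triple

open Cfsg.Agent.Solv.OddPair (CR imgRing imgRing_comm imgRing_conj mem_imgRing eigvec_indep Extra MaxAb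
  card_conj_le exists_extra)

universe u v

/-- An eigenvector in the cyclic span of a vector. -/
theorem exists_eigen {K : Type u} [Field K] {V : Type v} [AddCommGroup V] [Module K V]
    (f : Module.End K V) {l : ℕ} [Fact l.Prime] {ζ c : K} (hζ : ζ ^ l = 1) (hζ1 : ζ ≠ 1) (hc : c ≠ 0)
    {x : V} (hx : x ≠ 0) (hf : (f ^ l) x = c ^ l • x) :
    ∃ (y : V) (μ : K), y ≠ 0 ∧ f y = μ • y ∧
      ∀ (g : Module.End K V), Commute g f → ∀ a : K, g x = a • x → g y = a • y := by
  classical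
  have hl : l.Prime := Fact.out
  have hζ0 : ζ ≠ 0 := fun h => by rw [h, zero_pow hl.ne_zero] at hζ; exact zero_ne_one hζ
  have hlK : (l : K) ≠ 0 := by
    intro h
    obtain ⟨p, hp⟩ := CharP.exists K
    haveI := hp
    have hpl : p ∣ l := (CharP.cast_eq_zero_iff K p l).1 h
    rcases (Nat.dvd_prime hl).1 hpl with rfl | rfl
    · exact CharP.ringChar_ne_one (R := K) (ringChar.eq K 1)
    · have h1 : (ζ - 1) ^ p = 0 := by rw [sub_pow_char, hζ, one_pow, sub_self]
      exact hζ1 (sub_eq_zero.1 (eq_zero_of_pow_eq_zero h1))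
  let y : ℕ → V := fun j => ∑ i ∈ Finset.range l, ((ζ ^ j * c)⁻¹) ^ i • (f ^ i) x
  have hμ : ∀ j, ζ ^ j * c ≠ 0 := fun j => mul_ne_zero (pow_ne_zero _ hζ0) hc
  have hyeig : ∀ j, f (y j) = (ζ ^ j * c) • y j := by
    intro j
    obtain ⟨μ, hμd⟩ : ∃ μ, μ = ζ ^ j * c := ⟨_, rfl⟩
    have hμ0 : μ ≠ 0 := hμd ▸ hμ j
    let t : ℕ → V := fun i => (μ⁻¹) ^ i • (f ^ i) x
    have ht : t l = t 0 := by
      show (μ⁻¹) ^ l • (f ^ l) x = (μ⁻¹) ^ 0 • (f ^ 0) x
      rw [hf, smul_smul, hμd, inv_pow, mul_pow, ← pow_mul, mul_comm j, pow_mul, hζ, one_pow, one_mul,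
        inv_mul_cancel₀ (pow_ne_zero _ hc), pow_zero, pow_zero, Module.End.one_apply]
    show f (∑ i ∈ Finset.range l, ((ζ ^ j * c)⁻¹) ^ i • (f ^ i) x) = _
    rw [show y j = ∑ i ∈ Finset.range l, t i by simp [y, t, hμd], ← hμd, map_sum]
    have hstep : ∀ i, f ((μ⁻¹) ^ i • (f ^ i) x) = μ • t (i + 1) := by
      intro i
      show _ = μ • ((μ⁻¹) ^ (i + 1) • (f ^ (i + 1)) x)
      rw [map_smul, smul_smul, pow_succ' f i, Module.End.mul_apply, pow_succ' μ⁻¹, ← mul_assoc,
        mul_inv_cancel₀ hμ0, one_mul]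
    rw [Finset.sum_congr rfl fun i _ => hstep i, ← Finset.smul_sum]
    congr 1
    have h1 := Finset.sum_range_succ' t l
    have h2 := Finset.sum_range_succ t l
    rw [h2, ht] at h1
    exact (add_right_cancel h1).symm
  obtain ⟨j, -, hj⟩ : ∃ j ∈ Finset.range l, y j ≠ 0 := by
    by_contra hcon
    push Not at hcon
    have h1 : ∑ j ∈ Finset.range l, y j = 0 := Finset.sum_eq_zero hcon
    have h2 : ∑ j ∈ Finset.range l, y j = (l : K) • x := by
      show ∑ j ∈ Finset.range l, ∑ i ∈ Finset.range l, ((ζ ^ j * c)⁻¹) ^ i • (f ^ i) x = _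
      rw [Finset.sum_comm, Finset.sum_eq_single 0]
      · simp only [pow_zero, Module.End.one_apply, one_smul, Finset.sum_const, Finset.card_range]
        rw [Nat.cast_smul_eq_nsmul]
      · intro i hi hi0
        rw [← Finset.sum_smul]
        have hsum : ∑ j ∈ Finset.range l, ((ζ ^ j * c)⁻¹) ^ i = 0 := by
          have e : ∀ j, ((ζ ^ j * c)⁻¹) ^ i = ((ζ⁻¹) ^ i) ^ j * (c⁻¹) ^ i := fun j => by
            rw [mul_inv, mul_pow, ← inv_pow, ← pow_mul, ← pow_mul, mul_comm i j]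
          rw [Finset.sum_congr rfl fun j _ => e j, ← Finset.sum_mul]
          have hη : (ζ⁻¹) ^ i ≠ 1 := by
            intro h
            rw [inv_pow, inv_eq_one] at h
            have h' : orderOf ζ = l := orderOf_eq_prime hζ hζ1
            have := Nat.le_of_dvd (Nat.pos_of_ne_zero hi0) (h' ▸ orderOf_dvd_of_pow_eq_one h)
            have := Finset.mem_range.1 hi
            omega
          have hg := geom_sum_mul ((ζ⁻¹) ^ i) l
          have hz : ((ζ⁻¹) ^ i) ^ l = 1 := by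
            rw [← pow_mul, mul_comm, pow_mul, inv_pow ζ l, hζ, inv_one, one_pow]
          rw [hz, sub_self] at hg
          rw [(mul_eq_zero.1 hg).resolve_right (sub_ne_zero.2 hη), zero_mul]
        rw [hsum, zero_smul]
      · intro h
        exact absurd (Finset.mem_range.2 hl.pos) h
    rw [h1] at h2
    exact hx ((smul_eq_zero.1 h2.symm).resolve_left hlK)
  refine ⟨y j, ζ ^ j * c, hj, hyeig j, fun g hg a ha => ?_⟩
  show g (∑ i ∈ Finset.range l, ((ζ ^ j * c)⁻¹) ^ i • (f ^ i) x) = _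
  rw [map_sum, Finset.smul_sum]
  refine Finset.sum_congr rfl fun i _ => ?_
  rw [map_smul, ← Module.End.mul_apply, (hg.pow_right i).eq, Module.End.mul_apply, ha, map_smul, smul_comm]

variable {A V : Type v} [Group A] [Finite A] [AddCommGroup V] [Finite V] [DistribMulAction A V]
  {K : Type v} [Field K] [Finite K] [Module K V]

/-- Vectors with distinct characters summing to zero are zero. -/
theorem zero_of_sum {M : Type*} [Monoid M] {ι : Type*} [Fintype ι] (χ : ι → M →* K)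
    (hχ : Function.Injective χ) (L : M → V →ₗ[K] V) (f : ι → V)
    (hL : ∀ m i, L m (f i) = χ i m • f i) (hsum : ∑ i, f i = 0) (i : ι) : f i = 0 := by
  classical
  by_contra hi
  let J := {j : ι // f j ≠ 0}
  have hLI := eigvec_indep (fun j : J => χ j.1) (hχ.comp Subtype.val_injective) L (fun j : J => f j.1)
    (fun j => j.2) (fun m j => hL m j.1)
  rw [Fintype.linearIndependent_iff] at hLI
  have h0 : ∑ j : J, (1 : K) • f j.1 = 0 := by
    simp only [one_smul]
    rw [← Finset.sum_subtype (Finset.univ.filter fun j => f j ≠ 0) (fun j => by simp) f,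
      Finset.sum_filter_ne_zero]
    exact hsum
  exact one_ne_zero (hLI (fun _ => 1) h0 ⟨i, hi⟩)

/-- The monomial frame. -/
theorem frame [Nontrivial V] (hf : ∀ a : A, (∀ x : V, a • x = x) → a = 1) {Z E : Subgroup A} [Z.Normal]
    (ι : Z →* K) (hι : Function.Injective ι) (hιsmul : ∀ (z : Z) (v : V), ι z • v = (z : A) • v)
    (hsemi : ∀ (a : A) (k : K), ∃ k' : K, ∀ v : V, a • k • v = k' • a • v)
    (hlin : ∀ g ∈ Subgroup.centralizer (Z : Set A), ∀ (k : K) (v : V), g • k • v = k • g • v)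
    (hx : Extra Z E) (hEZ : ¬E ≤ Z) : Base3 A V := by
  classical
  haveI := hx.normal
  have hZC : ∀ e ∈ E, ∀ z ∈ Z, z * e = e * z := fun e he z hz =>
    Subgroup.mem_centralizer_iff.1 (hx.le_centralizer he) z hz
  have hlinE : ∀ e ∈ E, ∀ (k : K) (v : V), e • k • v = k • e • v := fun e he =>
    hlin e (hx.le_centralizer he)
  have hfree : ∀ (z : Z) (v : V), v ≠ 0 → (z : A) • v = v → z = 1 := by
    intro z v hv hzv
    refine hι ?_
    rw [map_one]
    by_contra hne
    have h1 : (ι z - 1) • v = 0 := by rw [sub_smul, one_smul, hιsmul, hzv, sub_self]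
    exact hv ((smul_eq_zero.1 h1).resolve_left (sub_ne_zero.2 hne))
  have hne0 : ∀ (a : A) {v : V}, v ≠ 0 → a • v ≠ 0 := fun a v hv h => hv ((smul_eq_zero_iff_eq a).1 h)
  -- the scalar elements of a vector
  let Mv : {v : V // v ≠ 0} → Subgroup A := fun v =>
    { carrier := {e | e ∈ E ∧ ∃ a : K, e • (v : V) = a • (v : V)}
      one_mem' := ⟨one_mem E, 1, by rw [one_smul, one_smul]⟩
      mul_mem' := fun {e f} ⟨he, a, ha⟩ ⟨hf', b, hb⟩ => ⟨mul_mem he hf', b * a, by
        rw [mul_smul, hb, hlinE e he, ha, smul_smul]⟩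
      inv_mem' := fun {e} ⟨he, a, ha⟩ => ⟨inv_mem he, a⁻¹, by
        have ha0 : a ≠ 0 := fun h => hne0 e v.2 (by rw [ha, h, zero_smul])
        rw [inv_smul_eq_iff, hlinE e he, ha, smul_smul, inv_mul_cancel₀ ha0, one_smul]⟩ }
  haveI : Nonempty {v : V // v ≠ 0} := nonempty_subtype.2 (exists_ne 0)
  obtain ⟨⟨x, hx0⟩, hmaxM⟩ := Finite.exists_max fun v => Nat.card (Mv v)
  obtain ⟨M, hMdef⟩ : ∃ M, M = Mv ⟨x, hx0⟩ := ⟨_, rfl⟩
  have hM : ∀ {e : A}, e ∈ M ↔ e ∈ E ∧ ∃ a : K, e • x = a • x := fun {e} => by rw [hMdef]; rfl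
  have hME : M ≤ E := fun e he => (hM.1 he).1
  have hZM : Z ≤ M := fun z hz => hM.2 ⟨hx.le hz, ι ⟨z, hz⟩, (hιsmul ⟨z, hz⟩ x).symm⟩
  have hMc : ∀ m ∈ M, ∀ m' ∈ M, m * m' = m' * m := by
    intro m hm m' hm'
    obtain ⟨he, a, ha⟩ := hM.1 hm
    obtain ⟨he', b, hb⟩ := hM.1 hm'
    have h1 : (⟨m * m' * m⁻¹ * m'⁻¹, hx.inZ m he m' he'⟩ : Z) = 1 := hfree _ x hx0 (by
      show (m * m' * m⁻¹ * m'⁻¹) • x = x
      have h2 : (m' * m) • x = (m * m') • x := by
        rw [mul_smul, mul_smul, ha, hb, hlinE m he, hlinE m' he', ha, hb, smul_smul, smul_smul, mul_comm]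
      have h3 : (m * m' * m⁻¹ * m'⁻¹) • (m' * m) • x = (m' * m) • x := by
        rw [← mul_smul, h2]; congr 1; group
      have h4 : (m' * m) • x = (b * a : K) • x := by
        rw [mul_smul, ha, hlinE m' he', hb, smul_smul, mul_comm]
      rw [h4, hlinE _ (mul_mem (mul_mem (mul_mem he he') (inv_mem he)) (inv_mem he'))] at h3
      have hb0 : b ≠ 0 := fun h => hne0 m' hx0 (by rw [hb, h, zero_smul])
      have ha0 : a ≠ 0 := fun h => hne0 m hx0 (by rw [ha, h, zero_smul])
      exact smul_right_injective V (mul_ne_zero hb0 ha0) h3)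
    have h5 : m * m' * m⁻¹ * m'⁻¹ = 1 := congrArg Subtype.val h1
    rw [mul_inv_eq_one, mul_inv_eq_iff_eq_mul] at h5
    exact h5
  obtain ⟨E1, hE1def⟩ : ∃ E1, E1 = E ⊓ Subgroup.centralizer (M : Set A) := ⟨_, rfl⟩
  have hE1 : ∀ {e : A}, e ∈ E1 ↔ e ∈ E ∧ ∀ m ∈ M, m * e = e * m := fun {e} => by
    rw [hE1def, Subgroup.mem_inf, Subgroup.mem_centralizer_iff]; rfl
  have hE1E : E1 ≤ E := fun e he => (hE1.1 he).1
  have hMC : ∀ m ∈ M, ∀ e ∈ E1, m * e = e * m := fun m hm e he => (hE1.1 he).2 m hm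
  have hME1 : M ≤ E1 := fun m hm => hE1.2 ⟨hME hm, fun m' hm' => hMc m' hm' m hm⟩
  -- the centre of the centraliser of the scalar elements
  have hdouble : ∀ t ∈ E1, (∀ s ∈ E1, t * s = s * t) → t ∈ M := by
    let M2 : Subgroup A := E1 ⊓ Subgroup.centralizer (E1 : Set A)
    have hM2 : ∀ {t : A}, t ∈ M2 ↔ t ∈ E1 ∧ ∀ s ∈ E1, s * t = t * s := fun {t} => by
      rw [Subgroup.mem_inf, Subgroup.mem_centralizer_iff]; rfl
    have hMM2 : M ≤ M2 := fun m hm => hM2.2 ⟨hME1 hm, fun s hs => (hMC m hm s hs).symm⟩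
    have hM2E : M2 ≤ E := fun t ht => hE1E (hM2.1 ht).1
    haveI : (E1.subgroupOf E).Normal := ⟨fun r hr e => by
      show (e : A) * r * (e : A)⁻¹ ∈ E1
      have h1 : (e : A) * r * (e : A)⁻¹ * (r : A)⁻¹ * r ∈ E1 :=
        mul_mem (hME1 (hZM (hx.inZ e e.2 r r.2))) hr
      rwa [inv_mul_cancel_right] at h1⟩
    have b1 : Z.relIndex M2 ≤ E1.relIndex E := by
      have := card_conj_le ι hι E E1 hx.le_centralizer
        (fun q : M2 ⧸ Z.subgroupOf M2 => ((q.out : M2) : A))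
        (fun q n hn => hx.inZ _ (hM2E q.out.2) n hn)
        (fun q s hs => by rw [← (hM2.1 q.out.2).2 s hs, mul_inv_cancel_right])
        (fun q r h => by
          rw [← QuotientGroup.out_eq' q, ← QuotientGroup.out_eq' r]
          refine QuotientGroup.eq.2 (hx.center_le _ (mul_mem (inv_mem (hM2E q.out.2)) (hM2E r.out.2))
            fun n hn => ?_)
          show ((q.out : M2) : A)⁻¹ * (r.out : M2) * n = n * (((q.out : M2) : A)⁻¹ * (r.out : M2))
          calc ((q.out : M2) : A)⁻¹ * (r.out : M2) * n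
              = ((q.out : M2) : A)⁻¹ * ((r.out : M2) * n * ((r.out : M2) : A)⁻¹) * (r.out : M2) := by group
            _ = ((q.out : M2) : A)⁻¹ * ((q.out : M2) * n * ((q.out : M2) : A)⁻¹) * (r.out : M2) := by
              rw [h n hn]
            _ = n * (((q.out : M2) : A)⁻¹ * (r.out : M2)) := by group)
      rwa [← Subgroup.index_eq_card] at this
    have b2 : E1.relIndex E ≤ Z.relIndex M := by
      have := card_conj_le ι hι M Z (hME.trans hx.le_centralizer)
        (fun q : E ⧸ E1.subgroupOf E => ((q.out : E) : A))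
        (fun q n hn => hx.inZ _ q.out.2 n (hME hn))
        (fun q s hs => by rw [← hZC _ q.out.2 s hs, mul_inv_cancel_right])
        (fun q r h => by
          rw [← QuotientGroup.out_eq' q, ← QuotientGroup.out_eq' r]
          refine QuotientGroup.eq.2 (hE1.2 ⟨mul_mem (inv_mem q.out.2) r.out.2, fun n hn => ?_⟩)
          show n * (((q.out : E) : A)⁻¹ * (r.out : E)) = ((q.out : E) : A)⁻¹ * (r.out : E) * n
          calc n * (((q.out : E) : A)⁻¹ * (r.out : E))
              = ((q.out : E) : A)⁻¹ * ((q.out : E) * n * ((q.out : E) : A)⁻¹) * (r.out : E) := by group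
            _ = ((q.out : E) : A)⁻¹ * ((r.out : E) * n * ((r.out : E) : A)⁻¹) * (r.out : E) := by
              rw [h n hn]
            _ = ((q.out : E) : A)⁻¹ * (r.out : E) * n := by group)
      rwa [← Subgroup.index_eq_card] at this
    have hM2le : M2 ≤ M := by
      have h3 := Subgroup.relIndex_mul_relIndex Z M M2 hZM hMM2
      have h4 : 0 < Z.relIndex M := Nat.pos_of_ne_zero Subgroup.index_ne_zero_of_finite
      have h5 : 0 < M.relIndex M2 := Nat.pos_of_ne_zero Subgroup.index_ne_zero_of_finite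
      have h6 : Z.relIndex M * M.relIndex M2 ≤ Z.relIndex M * 1 := by
        rw [h3, mul_one]; exact b1.trans b2
      exact Subgroup.relIndex_eq_one.1 (le_antisymm (Nat.le_of_mul_le_mul_left h6 h4) h5)
    exact fun t ht h => hM2le (hM2.2 ⟨ht, fun s hs => (h s hs).symm⟩)
  -- commutation in the centraliser
  let β : ∀ t ∈ E1, E →* K := fun t ht =>
    Cfsg.Agent.Solv.OddPair.chi ι E hx.le_centralizer t fun n hn => hx.inZ t (hE1E ht) n hn
  have hβ : ∀ t (ht : t ∈ E1) (s : A) (hs : s ∈ E), β t ht ⟨s, hs⟩ = 1 ↔ t * s = s * t := by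
    intro t ht s hs
    show ι _ = 1 ↔ _
    rw [← map_one ι, hι.eq_iff, Subtype.ext_iff]
    show t * s * t⁻¹ * s⁻¹ = 1 ↔ _
    rw [mul_inv_eq_one, mul_inv_eq_iff_eq_mul]
  have hβM : ∀ t (ht : t ∈ E1) (s : A) (hs : s ∈ E) (l : ℕ), s ^ l ∈ M → β t ht ⟨s, hs⟩ ^ l = 1 := by
    intro t ht s hs l hl
    rw [← map_pow]
    exact (hβ t ht (s ^ l) (pow_mem hs l)).2 (hMC _ hl t ht).symm
  -- an element with an eigenvector is scalar
  have grow : ∀ r ∈ E1, ∀ l : ℕ, l.Prime → r ∉ M → ∀ ζ : K, ζ ^ l = 1 → ζ ≠ 1 → ∀ c : K,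
      r ^ l • x ≠ c ^ l • x := by
    intro r hr l hl hrM ζ hζ hζ1 c hc
    haveI := Fact.mk hl
    have hc0 : c ≠ 0 := fun h => hne0 (r ^ l) hx0 (by rw [hc, h, zero_pow hl.ne_zero, zero_smul])
    let L : E → Module.End K V := fun e =>
      { toFun := fun v => (e : A) • v
        map_add' := fun v w => smul_add (e : A) v w
        map_smul' := fun k v => hlinE e e.2 k v }
    have hpow : ∀ i (v : V), ((L ⟨r, hE1E hr⟩) ^ i) v = r ^ i • v := by
      intro i
      induction i with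
      | zero => intro v; rw [pow_zero, Module.End.one_apply, pow_zero, one_smul]
      | succ i ih =>
        intro v
        rw [pow_succ', Module.End.mul_apply, ih]
        show r • r ^ i • v = _
        rw [← mul_smul, ← pow_succ']
    obtain ⟨y, μ, hy, hye, hcomm⟩ := exists_eigen (L ⟨r, hE1E hr⟩) hζ hζ1 hc0 hx0
      (by rw [hpow]; exact hc)
    have hle : M ≤ Mv ⟨y, hy⟩ := by
      intro m hm
      obtain ⟨he, a, ha⟩ := hM.1 hm
      exact ⟨he, a, hcomm (L ⟨m, he⟩) (LinearMap.ext fun v => by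
        show m • r • v = r • m • v
        rw [← mul_smul, hMC m hm r hr, mul_smul]) a ha⟩
    have h2 : Mv ⟨y, hy⟩ = M :=
      (Subgroup.eq_of_le_of_card_ge hle (hMdef ▸ hmaxM ⟨y, hy⟩)).symm
    exact hrM (h2 ▸ (⟨hE1E hr, μ, hye⟩ : r ∈ Mv ⟨y, hy⟩))
  haveI : IsCyclic Kˣ := inferInstance
  obtain ⟨γ, hγ⟩ := IsCyclic.exists_generator (α := Kˣ)
  have hgen : ∀ a : K, a ≠ 0 → ∃ i : ℕ, a = (γ : K) ^ i := fun a ha => by
    obtain ⟨i, hi⟩ := mem_powers_iff_mem_zpowers.2 (hγ (Units.mk0 a ha))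
    exact ⟨i, by rw [← Units.val_pow_eq_pow_val]; exact (congrArg Units.val hi).symm⟩
  have scal : ∀ m ∈ M, ∃ a : K, a ≠ 0 ∧ m • x = a • x := fun m hm => by
    obtain ⟨-, a, ha⟩ := hM.1 hm
    exact ⟨a, fun h => hne0 m hx0 (by rw [ha, h, zero_smul]), ha⟩
  -- two commuting elements of the same prime order modulo `M` are dependent
  have pair : ∀ l : ℕ, l.Prime → ∀ r ∈ E1, ∀ s ∈ E1, r ∉ M → r ^ l ∈ M → s ^ l ∈ M →
      (r * s = s * r ∨ l ≠ 2) → ∃ k : ℕ, s * r ^ k ∈ M := by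
    intro l hl r hr s hs hrM hrl hsl hor
    haveI := Fact.mk hl
    obtain ⟨t, ht, hrt⟩ : ∃ t ∈ E1, r * t ≠ t * r := by
      by_contra h
      push Not at h
      exact hrM (hdouble r hr h)
    obtain ⟨ζ, hζd⟩ : ∃ ζ, ζ = β t ht ⟨r, hE1E hr⟩ := ⟨_, rfl⟩
    have hζ : ζ ^ l = 1 := hζd ▸ hβM t ht r _ l hrl
    have hζ1 : ζ ≠ 1 := fun h => hrt ((hβ t ht r _).1 (hζd ▸ h)).symm
    obtain ⟨a, ha0, ha⟩ := scal _ hrl
    obtain ⟨b, hb0, hb⟩ := scal _ hsl
    obtain ⟨i, rfl⟩ := hgen a ha0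
    obtain ⟨j, rfl⟩ := hgen b hb0
    have hil : ¬l ∣ i := by
      rintro ⟨d, rfl⟩
      exact grow r hr l hl hrM ζ hζ hζ1 ((γ : K) ^ d) (by rw [ha, ← pow_mul, mul_comm d])
    obtain ⟨k, hk⟩ : ∃ k : ℕ, l ∣ j + i * k := by
      have hi0 : (i : ZMod l) ≠ 0 := fun h => hil ((ZMod.natCast_eq_zero_iff i l).1 h)
      refine ⟨(-(j : ZMod l) / (i : ZMod l)).val, (ZMod.natCast_eq_zero_iff _ l).1 ?_⟩
      push_cast
      rw [ZMod.natCast_zmod_val, mul_div_cancel₀ _ hi0, add_neg_cancel]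
    refine ⟨k, by_contra fun hnot => ?_⟩
    obtain ⟨e, he⟩ := hk
    refine grow (s * r ^ k) (mul_mem hs (pow_mem hr k)) l hl hnot ζ hζ hζ1 ((γ : K) ^ e) ?_
    obtain ⟨w, hwd⟩ : ∃ w, w = r ^ k * s * (r ^ k)⁻¹ * s⁻¹ := ⟨_, rfl⟩
    have hrkE : r ^ k ∈ E := pow_mem (hE1E hr) k
    have hwZ : w ∈ Z := hwd ▸ hx.inZ _ hrkE s (hE1E hs)
    have hbas : r ^ k * s = w * s * r ^ k := by rw [hwd]; group
    have hwpow : w ^ l.choose 2 = 1 := by
      rcases hor with hc | hl2
      · have : w = 1 := by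
          rw [hwd, ((show Commute r s from hc).pow_left k).eq]
          group
        rw [this, one_pow]
      · have hw1 : (⟨w, hwZ⟩ : Z) ^ l = 1 := hι (by
          have h1 := hβM (r ^ k) (pow_mem hr k) s (hE1E hs) l hsl
          rw [map_pow, map_one]
          rw [← h1]
          show ι ⟨w, hwZ⟩ ^ l = ι _ ^ l
          congr 2
          exact Subtype.ext hwd)
        obtain ⟨d, hd⟩ := hl.dvd_choose_self (k := 2) (by norm_num) (lt_of_le_of_ne hl.two_le (Ne.symm hl2))
        have h2 : w ^ l = 1 := congrArg Subtype.val hw1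
        rw [hd, pow_mul, h2, one_pow]
    rw [mul_pow_of_central hbas (hZC s (hE1E hs) w hwZ) (hZC _ hrkE w hwZ) l, hwpow, one_mul,
      ← pow_mul r k l, mul_comm k l, pow_mul r l k, mul_smul]
    have hrk : ∀ k : ℕ, (r ^ l) ^ k • x = (((γ : K) ^ i) ^ k) • x := by
      intro k
      induction k with
      | zero => rw [pow_zero, pow_zero, one_smul, one_smul]
      | succ k ih =>
        rw [pow_succ', mul_smul, ih, hlinE (r ^ l) (hME hrl), ha, smul_smul, ← pow_succ]
    rw [hrk k, hlinE (s ^ l) (hME hsl), hb, smul_smul, ← pow_mul, ← pow_mul, ← pow_add, mul_comm e l, ← he]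
    congr 2
    ring
  -- an element of prime order commuting with all of the same order is impossible
  have central_false : ∀ l : ℕ, l.Prime → ∀ r ∈ E1, r ∉ M → r ^ l ∈ M →
      (∀ s ∈ E1, s ^ l ∈ M → r * s = s * r) → False := by
    intro l hl r hr hrM hrl hall
    haveI := Fact.mk hl
    refine hrM (hdouble r hr fun t ht => ?_)
    obtain ⟨a, m', hm', ht'⟩ := Nat.exists_eq_pow_mul_and_not_dvd (orderOf_pos t).ne' l hl.ne_one
    obtain ⟨u, hud⟩ : ∃ u, u = t ^ m' := ⟨_, rfl⟩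
    have hu : u ∈ E1 := hud ▸ pow_mem ht m'
    have hul : ∃ i, u ^ l ^ i ∈ M := ⟨a, by
      rw [hud, ← pow_mul, mul_comm, ← ht', pow_orderOf_eq_one]
      exact one_mem M⟩
    have hru : r * u = u * r := by
      by_cases huM : u ∈ M
      · exact (hMC u huM r hr).symm
      have hk0 : Nat.find hul ≠ 0 := fun h => huM (by
        have h1 := Nat.find_spec hul
        rwa [h, pow_zero, pow_one] at h1)
      obtain ⟨i, hi⟩ := Nat.exists_eq_succ_of_ne_zero hk0
      have hsM : u ^ l ^ i ∉ M := Nat.find_min hul (by omega)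
      have hsl : (u ^ l ^ i) ^ l ∈ M := by
        rw [← pow_mul, ← pow_succ]
        have h1 := Nat.find_spec hul
        rwa [hi] at h1
      obtain ⟨k, hk⟩ := pair l hl _ (pow_mem hu (l ^ i)) r hr hsM hsl hrl
        (Or.inl (hall _ (pow_mem hu (l ^ i)) hsl).symm)
      have h1 : Commute (r * (u ^ l ^ i) ^ k) u := hMC _ hk u hu
      have h2 : Commute ((u ^ l ^ i) ^ k) u := ((Commute.refl u).pow_left _).pow_left _
      have h3 : Commute r u := by
        have h4 := h1.mul_left h2.inv_left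
        rwa [mul_inv_cancel_right] at h4
      exact h3.eq
    rw [← hβ r hr t (hE1E ht)]
    have h1 : β r hr ⟨t, hE1E ht⟩ ^ m' = 1 := by
      rw [← map_pow]
      exact (hβ r hr (t ^ m') (pow_mem (hE1E ht) m')).2 (hud ▸ hru)
    have h2 : β r hr ⟨t, hE1E ht⟩ ^ l = 1 := by
      have h3 : β t ht ⟨r, hE1E hr⟩ ^ l = 1 := hβM t ht r _ l hrl
      have h4 : β r hr ⟨t, hE1E ht⟩ * β t ht ⟨r, hE1E hr⟩ = 1 := by
        show ι _ * ι _ = 1
        rw [← map_mul, ← map_one ι]
        refine congrArg ι (Subtype.ext ?_)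
        show r * t * r⁻¹ * t⁻¹ * (t * r * t⁻¹ * r⁻¹) = 1
        group
      rw [← one_pow l, ← h4, mul_pow, h3, mul_one]
    have h3 := orderOf_dvd_of_pow_eq_one h1
    have h4 := orderOf_dvd_of_pow_eq_one h2
    rcases (Nat.dvd_prime hl).1 h4 with h5 | h5
    · exact orderOf_eq_one_iff.1 h5
    · exact absurd (h5 ▸ h3) hm'
  -- the centraliser has exponent two modulo `M`
  have hexp : ∀ t ∈ E1, t ^ 2 ∈ M := by
    intro t ht
    have key : ∀ l : ℕ, l.Prime → ∀ u ∈ E1, u ^ l ∈ M → l ≠ 2 → u ∈ M := by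
      intro l hl u hu hul hl2
      by_contra huM
      refine central_false l hl u hu huM hul fun s hs hsl => ?_
      obtain ⟨k, hk⟩ := pair l hl u hu s hs huM hul hsl (Or.inr hl2)
      have h1 : Commute (s * u ^ k) u := hMC _ hk u hu
      have h4 := h1.mul_left ((Commute.refl u).pow_left k).inv_left
      rw [mul_inv_cancel_right] at h4
      exact h4.eq.symm
    obtain ⟨a, m', hm', ht'⟩ := Nat.exists_eq_pow_mul_and_not_dvd (orderOf_pos t).ne' 2 (by norm_num)
    -- the odd part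
    have hodd : ∀ m : ℕ, ¬2 ∣ m → ∀ u ∈ E1, u ^ m ∈ M → u ∈ M := by
      intro m
      induction m using Nat.strong_induction_on with
      | _ m ih =>
        intro hm2 u hu hum
        by_cases hm1 : m = 1
        · rwa [hm1, pow_one] at hum
        obtain ⟨l, hl, d, rfl⟩ := Nat.exists_prime_and_dvd hm1
        have hd0 : d ≠ 0 := fun h => hm2 (by rw [h, mul_zero]; exact dvd_zero 2)
        have hlt : d < l * d := by
          calc d = 1 * d := (one_mul d).symm
            _ < l * d := Nat.mul_lt_mul_of_pos_right hl.one_lt (Nat.pos_of_ne_zero hd0)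
        refine ih d hlt (fun h => hm2 (h.mul_left l)) u hu ?_
        refine key l hl _ (pow_mem hu d) ?_ fun h => hm2 (h ▸ dvd_mul_right l d)
        rw [← pow_mul, mul_comm]
        exact hum
    by_contra hne
    have hu : t ^ m' ∈ E1 := pow_mem ht m'
    have h2pow : ∃ i, (t ^ m') ^ 2 ^ i ∈ M := ⟨a, by
      rw [← pow_mul, mul_comm, ← ht', pow_orderOf_eq_one]; exact one_mem M⟩
    by_cases hi : Nat.find h2pow ≤ 1
    · refine hne (hodd m' hm' _ (pow_mem ht 2) ?_)
      have h1 := Nat.find_spec h2pow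
      rw [← pow_mul, mul_comm, pow_mul]
      rcases Nat.le_one_iff_eq_zero_or_eq_one.1 hi with h | h <;> rw [h] at h1
      · rw [pow_zero, pow_one] at h1; exact pow_mem h1 2
      · rwa [pow_one] at h1
    obtain ⟨i, hii⟩ : ∃ i, Nat.find h2pow = i + 2 := ⟨Nat.find h2pow - 2, by omega⟩
    refine central_false 2 Nat.prime_two _ (pow_mem hu (2 ^ (i + 1))) (Nat.find_min h2pow (by omega))
      (by rw [← pow_mul, ← pow_succ]; have h1 := Nat.find_spec h2pow; rwa [hii] at h1) fun s hs hs2 => ?_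
    have hv : (t ^ m') ^ 2 ^ i ∈ E1 := pow_mem hu _
    refine ((hβ s hs ((t ^ m') ^ 2 ^ (i + 1)) (pow_mem (hE1E hu) _)).1 ?_).symm
    rw [show (⟨(t ^ m') ^ 2 ^ (i + 1), pow_mem (hE1E hu) _⟩ : E) = ⟨(t ^ m') ^ 2 ^ i, hE1E hv⟩ ^ 2 from
      Subtype.ext (show (t ^ m') ^ 2 ^ (i + 1) = ((t ^ m') ^ 2 ^ i) ^ 2 by rw [pow_succ 2 i, pow_mul]), map_pow]
    have h3 : β ((t ^ m') ^ 2 ^ i) hv ⟨s, hE1E hs⟩ ^ 2 = 1 := hβM _ hv s _ 2 hs2
    have h4 : β s hs ⟨_, hE1E hv⟩ * β ((t ^ m') ^ 2 ^ i) hv ⟨s, hE1E hs⟩ = 1 := by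
      show ι _ * ι _ = 1
      rw [← map_mul, ← map_one ι]
      refine congrArg ι (Subtype.ext ?_)
      show s * (t ^ m') ^ 2 ^ i * s⁻¹ * ((t ^ m') ^ 2 ^ i)⁻¹ *
        ((t ^ m') ^ 2 ^ i * s * ((t ^ m') ^ 2 ^ i)⁻¹ * s⁻¹) = 1
      group
    rw [← one_pow 2, ← h4, mul_pow, h3, mul_one]
  have hcommM : ∀ s (hs : s ∈ E1) t (ht : t ∈ E1), β s hs ⟨t, hE1E ht⟩ ^ 2 = 1 := fun s hs t ht =>
    hβM s hs t (hE1E ht) 2 (hexp t ht)
  -- the shape of the centraliser: `M`, or `M` with two anticommuting square roots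
  obtain ⟨y0, w0, hlinear, hy0, hw0⟩ :
      ∃ (cy cw : K × A), (∀ g : A, g • x = x → g • cy.1 • cy.2 • x = cy.1 • cy.2 • x →
        g • cw.1 • cw.2 • x = cw.1 • cw.2 • x →
        (∀ (k : K) (v : V), g • k • v = k • g • v) ∧ ∀ e ∈ E1, (e⁻¹ * (g * e * g⁻¹)) • x = x) ∧
      cy.2 ∈ E1 ∧ cw.2 ∈ E1 := by
    have hext : ∀ g : A, g • x = x → g • (γ : K) • x = (γ : K) • x →
        ∀ (k : K) (v : V), g • k • v = k • g • v := by
      intro g hgx hgγ
      obtain ⟨γ', hγ'⟩ := hsemi g (γ : K)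
      have h1 : γ' = (γ : K) := by
        have h := hγ' x
        rw [hgγ, hgx] at h
        exact (smul_left_injective K hx0 h).symm
      intro k v
      by_cases hk : k = 0
      · rw [hk, zero_smul, zero_smul, smul_zero]
      obtain ⟨i, rfl⟩ := hgen k hk
      induction i generalizing v with
      | zero => rw [pow_zero, one_smul, one_smul]
      | succ i ih =>
        by_cases hi0 : ((γ : K) ^ i) = 0
        · exact absurd hi0 (pow_ne_zero _ γ.ne_zero)
        rw [pow_succ, mul_smul, mul_smul, ih ((γ : K) • v) hi0, hγ' v, h1]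
    have hdM : ∀ g : A, g • x = x → (∀ (k : K) (v : V), g • k • v = k • g • v) →
        ∀ m ∈ M, (m⁻¹ * (g * m * g⁻¹)) • x = x := by
      intro g hgx hgl m hm
      obtain ⟨hmE, a, ha⟩ := hM.1 hm
      rw [mul_smul, mul_smul, mul_smul, inv_smul_eq_iff.2 hgx.symm, ha, hgl, hgx, ← ha, inv_smul_smul]
    by_cases hE1M : E1 ≤ M
    · refine ⟨(0, 1), ((γ : K), 1), fun g hgx _ hw => ?_, one_mem _, one_mem _⟩
      simp only [one_smul] at hw
      have hgl := hext g hgx hw
      exact ⟨hgl, fun e he => hdM g hgx hgl e (hE1M he)⟩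
    obtain ⟨r, hr, hrM⟩ := SetLike.not_le_iff_exists.1 hE1M
    obtain ⟨s, hs, hrs⟩ : ∃ s ∈ E1, r * s ≠ s * r := by
      by_contra h
      push Not at h
      exact hrM (hdouble r hr h)
    have hsM : s ∉ M := fun h => hrs (hMC s h r hr).symm
    have hor : ∀ p (hp : p ∈ E1) t (ht : t ∈ E1), β p hp ⟨t, hE1E ht⟩ = 1 ∨
        β p hp ⟨t, hE1E ht⟩ = -1 := fun p hp t ht =>
      sq_eq_one_iff.1 (hcommM p hp t ht)
    have hneg : ∀ p (hp : p ∈ E1) t (ht : t ∈ E1), p * t ≠ t * p → β p hp ⟨t, hE1E ht⟩ = -1 :=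
      fun p hp t ht h => (hor p hp t ht).resolve_left fun h1 => h ((hβ p hp t _).1 h1)
    have hprod : ∀ p (hp : p ∈ E1) t (ht : t ∈ E1) t' (ht' : t' ∈ E1), p * t ≠ t * p → p * t' ≠ t' * p →
        p * (t * t') = t * t' * p := by
      intro p hp t ht t' ht' h h'
      refine (hβ p hp (t * t') (mul_mem (hE1E ht) (hE1E ht'))).1 ?_
      rw [show (⟨t * t', mul_mem (hE1E ht) (hE1E ht')⟩ : E) = ⟨t, hE1E ht⟩ * ⟨t', hE1E ht'⟩ from rfl,
        map_mul, hneg p hp t ht h, hneg p hp t' ht' h', neg_mul_neg, one_mul]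
    -- every element is one of the four up to `M`
    have hfour : ∀ t ∈ E1, ∃ q ∈ M, ∃ i j : ℕ, t = q * r ^ i * s ^ j := by
      intro t ht
      have hcase : ∀ t ∈ E1, r * t = t * r → s * t = t * s → t ∈ M := by
        intro t ht h1 h2
        by_contra htM
        obtain ⟨k, hk⟩ := pair 2 Nat.prime_two t ht r hr htM (hexp t ht) (hexp r hr) (Or.inl h1.symm)
        refine hrs ?_
        have h3 : Commute (r * t ^ k) s := hMC _ hk s hs
        have h4 := h3.mul_left ((show Commute t s from h2.symm).pow_left k).inv_left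
        rw [mul_inv_cancel_right] at h4
        exact h4.eq
      have hrr : r * r = r * r := rfl
      by_cases h1 : r * t = t * r <;> by_cases h2 : s * t = t * s
      · exact ⟨t, hcase t ht h1 h2, 0, 0, by simp⟩
      · -- move by `r`
        refine ⟨t * r⁻¹, hcase _ (mul_mem ht (inv_mem hr)) ?_ ?_, 1, 0, by simp⟩
        · exact ((show Commute r t from h1).mul_right (Commute.refl r).inv_right).eq
        · exact hprod s hs t ht _ (inv_mem hr) h2 fun h => hrs (by
            have h3 := (show Commute s r⁻¹ from h).inv_right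
            rw [inv_inv] at h3
            exact h3.eq.symm)
      · refine ⟨t * s⁻¹, hcase _ (mul_mem ht (inv_mem hs)) ?_ ?_, 0, 1, by simp⟩
        · exact hprod r hr t ht _ (inv_mem hs) h1 fun h => hrs (by
            have h3 := (show Commute r s⁻¹ from h).inv_right
            rw [inv_inv] at h3
            exact h3.eq)
        · exact ((show Commute s t from h2).mul_right (Commute.refl s).inv_right).eq
      · refine ⟨t * (r * s)⁻¹, hcase _ (mul_mem ht (inv_mem (mul_mem hr hs))) ?_ ?_, 1, 1, by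
          simp [mul_assoc]⟩
        · refine hprod r hr t ht _ (inv_mem (mul_mem hr hs)) h1 fun h => hrs ?_
          have h3 := (show Commute r (r * s)⁻¹ from h).inv_right
          rw [inv_inv] at h3
          have h4 := h3.eq
          rw [mul_assoc] at h4
          exact mul_left_cancel h4
        · refine hprod s hs t ht _ (inv_mem (mul_mem hr hs)) h2 fun h => hrs ?_
          have h3 := (show Commute s (r * s)⁻¹ from h).inv_right
          rw [inv_inv] at h3
          have h4 := h3.eq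
          rw [← mul_assoc] at h4
          exact (mul_right_cancel h4).symm
    obtain ⟨a, ha0, ha⟩ := scal _ (hexp s hs)
    obtain ⟨i, rfl⟩ := hgen a ha0
    have hneg1 : (-1 : K) ≠ 1 := fun h => hrs ((hβ r hr s _).1 ((hneg r hr s hs hrs).trans h))
    obtain ⟨j, rfl⟩ : Odd i := by
      rcases Nat.even_or_odd i with ⟨d, rfl⟩ | h
      · exact absurd (by rw [ha, ← pow_mul, mul_two])
          (grow s hs 2 Nat.prime_two hsM (-1) (by norm_num) hneg1 ((γ : K) ^ d))
      · exact h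
    let ω : K := ((γ : K) ^ j)⁻¹
    have hω0 : ω ≠ 0 := inv_ne_zero (pow_ne_zero _ γ.ne_zero)
    have hωγ : (γ : K) ^ (2 * j + 1) * (ω * ω) = γ := by
      show _ * (((γ : K) ^ j)⁻¹ * ((γ : K) ^ j)⁻¹) = _
      rw [pow_succ, pow_mul, mul_comm (((γ : K) ^ 2) ^ j), mul_assoc, ← mul_inv, ← pow_two, ← pow_mul,
        ← pow_mul, mul_comm j, mul_inv_cancel₀ (pow_ne_zero _ γ.ne_zero), mul_one]
    refine ⟨(1, r), (ω, s), fun g hgx hy hw => ?_, hr, hs⟩
    simp only [one_smul] at hy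
    have hconjE1 : ∀ e ∈ E1, g * e * g⁻¹ ∈ E1 := by
      intro e he
      refine hE1.2 ⟨hx.normal.conj_mem e (hE1E he) g, fun m hm => ?_⟩
      have h2 : g⁻¹ * m * g ∈ M := hM.2 ⟨by simpa using hx.normal.conj_mem m (hME hm) g⁻¹, by
        obtain ⟨-, a, ha⟩ := hM.1 hm
        obtain ⟨a', ha'⟩ := hsemi g⁻¹ a
        exact ⟨a', by rw [mul_smul, mul_smul, hgx, ha, ha', inv_smul_eq_iff.2 hgx.symm]⟩⟩
      have h3 := hMC _ h2 e he
      calc m * (g * e * g⁻¹) = g * (g⁻¹ * m * g * e) * g⁻¹ := by group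
        _ = g * e * g⁻¹ * m := by rw [h3]; group
    obtain ⟨ω', hω'⟩ := hsemi g ω
    have hcs : ∀ e : A, g • e • x = (g * e * g⁻¹) • x := fun e => by
      rw [mul_smul, mul_smul, inv_smul_eq_iff.2 hgx.symm]
    obtain ⟨u, hud⟩ : ∃ u, u = s⁻¹ * (g * s * g⁻¹) := ⟨_, rfl⟩
    have hu1 : u ∈ E1 := hud ▸ mul_mem (inv_mem hs) (hconjE1 s hs)
    have hgs : g * s * g⁻¹ = s * u := by rw [hud, mul_inv_cancel_left]
    have heq : ω' • u • x = ω • x := by
      change g • ω • s • x = ω • s • x at hw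
      rw [hω', hcs, hgs, mul_smul, ← hlinE s (hE1E hs), ← hlinE s (hE1E hs), smul_left_cancel_iff] at hw
      exact hw
    have hω'0 : ω' ≠ 0 := fun h => hω0 (by
      rw [h, zero_smul] at heq
      exact (smul_eq_zero.1 heq.symm).resolve_right hx0)
    have hux : u • x = (ω'⁻¹ * ω) • x := by
      rw [mul_smul, ← heq, smul_smul, inv_mul_cancel₀ hω'0, one_smul]
    have huM : u ∈ M := hM.2 ⟨hE1E hu1, _, hux⟩
    obtain ⟨a', ha'⟩ := hsemi g ((γ : K) ^ (2 * j + 1))
    have hsq : a' • x = (ω'⁻¹ * ω) • (ω'⁻¹ * ω) • (γ : K) ^ (2 * j + 1) • x := by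
      have h1 : g • (s ^ 2 • x) = (g * s * g⁻¹) ^ 2 • x := by rw [hcs, conj_pow]
      rw [ha, ha', hgx, hgs, (show Commute s u from (hMC u huM s hs).symm).mul_pow, mul_smul,
        pow_two u, mul_smul, hux, hlinE u (hE1E hu1), hux, hlinE (s ^ 2) (hE1E (pow_mem hs 2)),
        hlinE (s ^ 2) (hE1E (pow_mem hs 2)), ha] at h1
      exact h1
    have hgγ : g • (γ : K) • x = (γ : K) • x := by
      rw [← hωγ, mul_smul, mul_smul, ha', hω', hω', hgx, smul_comm a' ω' (ω' • x), smul_comm a' ω' x,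
        hsq]
      simp only [smul_smul]
      congr 1
      field_simp
    have hgl := hext g hgx hgγ
    refine ⟨hgl, ?_⟩
    have hωω : ω' = ω := by
      have h := hω' x
      rw [hgl, hgx] at h
      exact (smul_left_injective K hx0 h).symm
    have hds : (s⁻¹ * (g * s * g⁻¹)) • x = x := by
      rw [← hud, hux, hωω, inv_mul_cancel₀ hω0, one_smul]
    have hdr : (r⁻¹ * (g * r * g⁻¹)) • x = x := by
      rw [mul_smul, ← hcs, hy, inv_smul_smul]
    have hdmul : ∀ e ∈ E1, ∀ f ∈ E1, (e⁻¹ * (g * e * g⁻¹)) • x = x → (f⁻¹ * (g * f * g⁻¹)) • x = x →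
        ((e * f)⁻¹ * (g * (e * f) * g⁻¹)) • x = x := by
      intro e he f hf' h1 h2
      have hdM' : e⁻¹ * (g * e * g⁻¹) ∈ M := hM.2 ⟨hE1E (mul_mem (inv_mem he) (hconjE1 e he)), 1, by
        rw [h1, one_smul]⟩
      have e3 := hMC _ hdM' f hf'
      have e4 : (e * f)⁻¹ * (g * (e * f) * g⁻¹) =
          (e⁻¹ * (g * e * g⁻¹)) * (f⁻¹ * (g * f * g⁻¹)) := by
        calc (e * f)⁻¹ * (g * (e * f) * g⁻¹)
            = f⁻¹ * (e⁻¹ * (g * e * g⁻¹) * f) * (f⁻¹ * (g * f * g⁻¹)) := by group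
          _ = (e⁻¹ * (g * e * g⁻¹)) * (f⁻¹ * (g * f * g⁻¹)) := by rw [e3, inv_mul_cancel_left]
      rw [e4, mul_smul, h2, h1]
    intro e he
    obtain ⟨q, hq, i, j', rfl⟩ := hfour e he
    have hpow : ∀ p ∈ E1, (p⁻¹ * (g * p * g⁻¹)) • x = x →
        ∀ i : ℕ, ((p ^ i)⁻¹ * (g * p ^ i * g⁻¹)) • x = x := by
      intro p hp hp' i
      induction i with
      | zero => rw [pow_zero, inv_one, one_mul, mul_one, mul_inv_cancel, one_smul]
      | succ i ih => rw [pow_succ]; exact hdmul _ (pow_mem hp i) p hp ih hp'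
    exact hdmul _ (mul_mem (hME1 hq) (pow_mem hr i)) _ (pow_mem hs j')
      (hdmul q (hME1 hq) _ (pow_mem hr i) (hdM g hgx hgl q hq) (hpow r hr hdr i)) (hpow s hs hds j')
  -- the index set of the frame
  haveI hE1n : (E1.subgroupOf E).Normal := ⟨fun r hr e => by
    show (e : A) * r * (e : A)⁻¹ ∈ E1
    have h1 : (e : A) * r * (e : A)⁻¹ * (r : A)⁻¹ * r ∈ E1 :=
      mul_mem (hME1 (hZM (hx.inZ e e.2 r r.2))) hr
    rwa [inv_mul_cancel_right] at h1⟩
  letI : CommGroup (E ⧸ E1.subgroupOf E) :=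
    { (inferInstance : Group (E ⧸ E1.subgroupOf E)) with
      mul_comm := fun p q => by
        induction p using QuotientGroup.induction_on with | _ a =>
        induction q using QuotientGroup.induction_on with | _ b =>
        rw [← QuotientGroup.mk_mul, ← QuotientGroup.mk_mul]
        refine QuotientGroup.eq.2 (hME1 (hZM ?_))
        show ((a : A) * b)⁻¹ * ((b : A) * a) ∈ Z
        have := hx.inZ _ (inv_mem b.2) _ (inv_mem a.2)
        simpa [mul_assoc] using this }
  obtain ⟨col, hcol⟩ := rigid_colouring (E ⧸ E1.subgroupOf E)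
  obtain ⟨lam, hl0, hl1⟩ : ∃ lam : K, lam ≠ 0 ∧ lam ≠ 1 := by
    obtain ⟨e, he, heZ⟩ := SetLike.not_le_iff_exists.1 hEZ
    obtain ⟨f, hf', hef⟩ : ∃ f ∈ E, e * f ≠ f * e := by
      by_contra h
      push Not at h
      exact heZ (hx.center_le e he h)
    refine ⟨ι ⟨_, hx.inZ e he f hf'⟩, fun h => ?_, fun h => hef ?_⟩
    · have h1 := hιsmul ⟨_, hx.inZ e he f hf'⟩ x
      rw [h, zero_smul] at h1
      exact hne0 _ hx0 h1.symm
    · rw [← map_one ι] at h
      have h1 : e * f * e⁻¹ * f⁻¹ = 1 := congrArg Subtype.val (hι h)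
      rw [mul_inv_eq_one, mul_inv_eq_iff_eq_mul] at h1
      exact h1
  let cf : Fin 4 → K × K := ![(1, 0), (0, 1), (1, 1), (1, lam)]
  let el : A → (E ⧸ E1.subgroupOf E) → A := fun e0 p => if p = 1 then e0 else ((p.out : E) : A)
  let cy : (E ⧸ E1.subgroupOf E) → K := fun p => if p = 1 then y0.1 else (cf (col p)).1
  let cw : (E ⧸ E1.subgroupOf E) → K := fun p => if p = 1 then w0.1 else (cf (col p)).2
  haveI := Fintype.ofFinite (E ⧸ E1.subgroupOf E)
  refine ⟨![x, ∑ p, cy p • el y0.2 p • x, ∑ p, cw p • el w0.2 p • x], fun g hg => ?_⟩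
  have hgx : g • x = x := hg 0
  have hgy : g • (∑ p, cy p • el y0.2 p • x) = ∑ p, cy p • el y0.2 p • x := hg 1
  have hgw : g • (∑ p, cw p • el w0.2 p • x) = ∑ p, cw p • el w0.2 p • x := hg 2
  have hMg : ∀ h : A, h • x = x → ∀ m ∈ M, h * m * h⁻¹ ∈ M := fun h hh m hm => by
    obtain ⟨hmE, a, ha⟩ := hM.1 hm
    obtain ⟨a', ha'⟩ := hsemi h a
    exact hM.2 ⟨hx.normal.conj_mem m hmE h, a', by
      rw [mul_smul, mul_smul, inv_smul_eq_iff.2 hh.symm, ha, ha', hh]⟩
  have hE1g : ∀ h : A, h • x = x → ∀ e ∈ E1, h * e * h⁻¹ ∈ E1 := fun h hh e he => by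
    refine hE1.2 ⟨hx.normal.conj_mem e (hE1E he) h, fun m hm => ?_⟩
    have h3 := hMC _ (hMg h⁻¹ (inv_smul_eq_iff.2 hh.symm) m hm) e he
    calc m * (h * e * h⁻¹) = h * (h⁻¹ * m * h⁻¹⁻¹ * e) * h⁻¹ := by group
      _ = h * e * h⁻¹ * m := by rw [h3]; group
  let θ : (E ⧸ E1.subgroupOf E) ≃* (E ⧸ E1.subgroupOf E) :=
    QuotientGroup.congr _ _ (MulAut.conjNormal g) (by
      refine le_antisymm ?_ fun e he => ?_
      · rintro _ ⟨e, he, rfl⟩
        show ((MulAut.conjNormal g e : E) : A) ∈ E1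
        rw [MulAut.conjNormal_apply]
        exact hE1g g hgx _ he
      · refine ⟨(MulAut.conjNormal g).symm e, ?_, MulEquiv.apply_symm_apply _ e⟩
        show ((((MulAut.conjNormal g).symm e : E)) : A) ∈ E1
        rw [MulAut.conjNormal_symm_apply]
        have := hE1g g⁻¹ (inv_smul_eq_iff.2 hgx.symm) _ he
        rwa [inv_inv] at this)
  have hθ : ∀ e : E, θ (e : E ⧸ E1.subgroupOf E) =
      ((MulAut.conjNormal g e : E) : E ⧸ E1.subgroupOf E) := fun e => rfl
  -- characters of the frame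
  have hsc : ∀ (e : E) (m : M), ∃ a : K, (m : A) • (e : A) • x = a • (e : A) • x := by
    intro e m
    obtain ⟨-, a, ha⟩ := hM.1 m.2
    refine ⟨ι ⟨_, hx.inZ m (hME m.2) e e.2⟩ * a, ?_⟩
    rw [mul_smul, hιsmul, ← hlinE (e : A) e.2, ← ha, ← mul_smul, ← mul_smul, ← mul_smul]
    congr 1
    group
  choose ch hch using hsc
  have hexne : ∀ e : A, e • x ≠ 0 := fun e => hne0 e hx0
  let χ : (E ⧸ E1.subgroupOf E) → M →* K := fun p =>
    { toFun := fun m => ch p.out m
      map_one' := smul_left_injective K (hexne ((p.out : E) : A)) (by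
        show ch p.out 1 • ((p.out : E) : A) • x = (1 : K) • ((p.out : E) : A) • x
        rw [← hch, OneMemClass.coe_one, one_smul, one_smul])
      map_mul' := fun m m' => smul_left_injective K (hexne ((p.out : E) : A)) (by
        show ch p.out (m * m') • ((p.out : E) : A) • x = (ch p.out m * ch p.out m') • ((p.out : E) : A) • x
        rw [← hch, Subgroup.coe_mul, mul_smul, hch, hlinE _ (hME m.2), hch, smul_smul, mul_comm]) }
  have hχe : ∀ (e : E) (m : M),
      (m : A) • (e : A) • x = χ (e : E ⧸ E1.subgroupOf E) m • (e : A) • x := by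
    intro e m
    obtain ⟨o, ho⟩ : ∃ o, o = ((e : E ⧸ E1.subgroupOf E).out) := ⟨_, rfl⟩
    show _ = ch ((e : E ⧸ E1.subgroupOf E).out) m • _
    rw [← ho]
    have hw : (o : A)⁻¹ * e ∈ E1 := by
      have h : o⁻¹ * e ∈ E1.subgroupOf E :=
        QuotientGroup.eq.1 (ho ▸ QuotientGroup.out_eq' (e : E ⧸ E1.subgroupOf E))
      exact h
    obtain ⟨-, a, ha⟩ := hM.1 m.2
    have h2 : ((o : A)⁻¹ * m * o) • x = ch o m • x := by
      rw [mul_smul, mul_smul, hch, hlinE _ (inv_mem o.2), inv_smul_smul]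
    have h3 : (o : A)⁻¹ * m * o = (e : A)⁻¹ * m * e := by
      have hz : (o : A)⁻¹ * m * o * (m : A)⁻¹ ∈ Z := by
        have := hx.inZ _ (inv_mem o.2) m (hME m.2)
        simpa using this
      have hmo : (o : A)⁻¹ * m * o ∈ M := by
        have := mul_mem (hZM hz) m.2
        rwa [inv_mul_cancel_right] at this
      have h4 := hMC _ hmo _ hw
      calc (o : A)⁻¹ * m * o
          = ((o : A)⁻¹ * e)⁻¹ * (((o : A)⁻¹ * m * o) * ((o : A)⁻¹ * e)) := by rw [h4]; group
        _ = (e : A)⁻¹ * m * e := by group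
    rw [h3, mul_smul, mul_smul, inv_smul_eq_iff, hlinE _ e.2] at h2
    exact h2
  have hχinj : Function.Injective χ := by
    intro p q hpq
    rw [← QuotientGroup.out_eq' p, ← QuotientGroup.out_eq' q]
    refine QuotientGroup.eq.2 (hE1.2 ⟨mul_mem (inv_mem p.out.2) q.out.2, fun m hm => ?_⟩)
    have h1 := hχe p.out ⟨m, hm⟩
    have h2 := hχe q.out ⟨m, hm⟩
    rw [QuotientGroup.out_eq'] at h1 h2
    rw [hpq] at h1
    obtain ⟨a, had⟩ : ∃ a, a = χ q ⟨m, hm⟩ := ⟨_, rfl⟩
    rw [← had] at h1 h2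
    change m • ((p.out : E) : A) • x = _ at h1
    change m • ((q.out : E) : A) • x = _ at h2
    obtain ⟨P, hP⟩ : ∃ P, P = ((p.out : E) : A) := ⟨_, rfl⟩
    obtain ⟨Q, hQ⟩ : ∃ Q, Q = ((q.out : E) : A) := ⟨_, rfl⟩
    have hPE : P ∈ E := hP ▸ p.out.2
    have hQE : Q ∈ E := hQ ▸ q.out.2
    rw [← hP] at h1
    rw [← hQ] at h2
    show m * (((p.out : E) : A)⁻¹ * (q.out : E)) = ((p.out : E) : A)⁻¹ * (q.out : E) * m
    rw [← hP, ← hQ]
    have h3 : (P⁻¹ * m * P) • x = (Q⁻¹ * m * Q) • x := by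
      rw [mul_smul, mul_smul, mul_smul, mul_smul, h1, h2, hlinE _ (inv_mem hPE), hlinE _ (inv_mem hQE),
        inv_smul_smul, inv_smul_smul]
    have hzP : P⁻¹ * m * P * m⁻¹ ∈ Z := by
      have := hx.inZ _ (inv_mem hPE) m (hME hm); simpa using this
    have hzQ : Q⁻¹ * m * Q * m⁻¹ ∈ Z := by
      have := hx.inZ _ (inv_mem hQE) m (hME hm); simpa using this
    have h4 : (⟨_, Z.mul_mem (Z.inv_mem hzQ) hzP⟩ : Z) = 1 := hfree _ (m • x) (hexne m) (by
      show ((Q⁻¹ * m * Q * m⁻¹)⁻¹ * (P⁻¹ * m * P * m⁻¹)) • m • x = m • x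
      rw [← mul_smul, mul_assoc, inv_mul_cancel_right, mul_smul, h3, inv_smul_eq_iff, ← mul_smul,
        inv_mul_cancel_right])
    have h5 : Q⁻¹ * m * Q * m⁻¹ = P⁻¹ * m * P * m⁻¹ := inv_mul_eq_one.1 (congrArg Subtype.val h4)
    have h6 : Q⁻¹ * m * Q = P⁻¹ * m * P := mul_right_cancel h5
    have h7 : (P * (Q⁻¹ * m * Q) * P⁻¹) = m := by rw [h6]; group
    calc m * (P⁻¹ * Q) = P⁻¹ * (P * m * P⁻¹) * Q := by group
      _ = P⁻¹ * Q * m := by
        have h8 : P * m * P⁻¹ = Q * m * Q⁻¹ := by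
          have e1 : P⁻¹ * m * P = P⁻¹ * m * P := rfl
          have c1 := hZC P hPE _ hzP
          have c2 := hZC Q hQE _ hzQ
          have a1 : P * m * P⁻¹ = (P⁻¹ * m * P * m⁻¹)⁻¹ * m := by
            calc P * m * P⁻¹
                = P * (P⁻¹ * m * P * m⁻¹)⁻¹ * P⁻¹ * m := by group
              _ = (P⁻¹ * m * P * m⁻¹)⁻¹ * m := by
                rw [← hZC P hPE _ (inv_mem hzP), mul_inv_cancel_right]
          have a2 : Q * m * Q⁻¹ = (Q⁻¹ * m * Q * m⁻¹)⁻¹ * m := by
            calc Q * m * Q⁻¹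
                = Q * (Q⁻¹ * m * Q * m⁻¹)⁻¹ * Q⁻¹ * m := by group
              _ = (Q⁻¹ * m * Q * m⁻¹)⁻¹ * m := by
                rw [← hZC Q hQE _ (inv_mem hzQ), mul_inv_cancel_right]
          rw [a1, a2, h5]
        rw [h8]; group
  let Lm : M → V →ₗ[K] V := fun m =>
    { toFun := fun v => (m : A) • v
      map_add' := fun v w => smul_add (m : A) v w
      map_smul' := fun k v => hlinE m (hME m.2) k v }
  -- components are permuted
  have comp : ∀ (e0 : A) (c : (E ⧸ E1.subgroupOf E) → K), e0 ∈ E1 →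
      g • (∑ p, c p • el e0 p • x) = ∑ p, c p • el e0 p • x →
      ∀ p, g • c p • el e0 p • x = c (θ p) • el e0 (θ p) • x := by
    intro e0 c he0 hfix p
    have hclass : ∀ p, ∃ h : el e0 p ∈ E, ((⟨_, h⟩ : E) : E ⧸ E1.subgroupOf E) = p := by
      intro p
      by_cases hp : p = 1
      · have e : el e0 p = e0 := if_pos hp
        refine ⟨e.symm ▸ hE1E he0, ?_⟩
        subst hp
        rw [QuotientGroup.eq_one_iff]
        show el e0 1 ∈ E1
        rw [show el e0 1 = e0 from if_pos rfl]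
        exact he0
      · have e : el e0 p = ((p.out : E) : A) := if_neg hp
        refine ⟨e.symm ▸ p.out.2, ?_⟩
        conv_rhs => rw [← QuotientGroup.out_eq' p]
        exact congrArg _ (Subtype.ext e)
    let f : (E ⧸ E1.subgroupOf E) → V := fun q =>
      g • c (θ.symm q) • el e0 (θ.symm q) • x - c q • el e0 q • x
    have hsum : ∑ q, f q = 0 := by
      rw [Finset.sum_sub_distrib, ← Finset.smul_sum,
        Fintype.sum_equiv θ.symm.toEquiv (fun q => c (θ.symm q) • el e0 (θ.symm q) • x)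
          (fun q => c q • el e0 q • x) (fun q => rfl), hfix, sub_self]
    have hL : ∀ (m : M) q, Lm m (f q) = χ q m • f q := by
      intro m q
      have second : ∀ q, (m : A) • c q • el e0 q • x = χ q m • c q • el e0 q • x := by
        intro q
        obtain ⟨h, hq⟩ := hclass q
        have h1 := hχe ⟨_, h⟩ m
        rw [hq] at h1
        rw [hlinE _ (hME m.2), h1, smul_comm]
      have first : (m : A) • g • c (θ.symm q) • el e0 (θ.symm q) • x =
          χ q m • g • c (θ.symm q) • el e0 (θ.symm q) • x := by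
        obtain ⟨h, hq⟩ := hclass (θ.symm q)
        obtain ⟨k', hk'⟩ := hsemi g (c (θ.symm q))
        have h1 := hχe (MulAut.conjNormal g ⟨_, h⟩) m
        rw [← hθ, hq, MulEquiv.apply_symm_apply, MulAut.conjNormal_apply, mul_smul, mul_smul,
          inv_smul_eq_iff.2 hgx.symm] at h1
        rw [hk', hlinE _ (hME m.2), h1, smul_comm]
      show (m : A) • f q = _
      rw [smul_sub, first, second q, smul_sub]
    have := zero_of_sum χ hχinj Lm f hL hsum (θ p)
    simp only [f, MulEquiv.symm_apply_apply, sub_eq_zero] at this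
    exact this
  have hy := comp y0.2 cy hy0 hgy
  have hw := comp w0.2 cw hw0 hgw
  obtain ⟨hgl, hd1⟩ := hlinear g hgx
    (by have h := hy 1; rw [map_one] at h; simpa [cy, el] using h)
    (by have h := hw 1; rw [map_one] at h; simpa [cw, el] using h)
  -- colours
  have hnorm : ∀ i, ((cf i).1 = 0 ∧ (cf i).2 = 1) ∨ (cf i).1 = 1 := by
    intro i; fin_cases i <;> simp [cf]
  have hcfinj : Function.Injective cf := by
    intro i j h
    fin_cases i <;> fin_cases j <;> first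
      | rfl
      | (simp [cf, Prod.ext_iff, hl0, hl0.symm, hl1, hl1.symm] at h)
  have hstep : ∀ p, p ≠ 1 → col (θ p) = col p ∧
      (g * (p.out : E) * g⁻¹) • x = (((θ p).out : E) : A) • x := by
    intro p hp
    have hθp : θ p ≠ 1 := fun h => hp (θ.injective (h.trans (map_one θ).symm))
    have a := hy p
    have b := hw p
    simp only [cy, cw, el, if_neg hp, if_neg hθp] at a b
    have hconj : g • ((p.out : E) : A) • x = (g * (p.out : E) * g⁻¹) • x := by
      rw [mul_smul, mul_smul, inv_smul_eq_iff.2 hgx.symm]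
    rw [hgl, hconj] at a b
    obtain ⟨v1, hv1d⟩ : ∃ v, v = (g * (p.out : E) * g⁻¹) • x := ⟨_, rfl⟩
    obtain ⟨v2, hv2d⟩ : ∃ v, v = (((θ p).out : E) : A) • x := ⟨_, rfl⟩
    rw [← hv1d, ← hv2d] at a b
    rw [← hv1d, ← hv2d]
    have hv1 : v1 ≠ 0 := hv1d ▸ hexne _
    have hv2 : v2 ≠ 0 := hv2d ▸ hexne _
    have key : v1 = v2 ∧ cf (col (θ p)) = cf (col p) := by
      rcases hnorm (col p) with ⟨h1, h2⟩ | h1
      · rw [h1, zero_smul] at a
        have h1' : (cf (col (θ p))).1 = 0 := (smul_eq_zero.1 a.symm).resolve_right hv2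
        have h2' : (cf (col (θ p))).2 = 1 := by
          rcases hnorm (col (θ p)) with ⟨-, h⟩ | h
          · exact h
          · rw [h1'] at h; exact absurd h zero_ne_one
        rw [h2, h2', one_smul, one_smul] at b
        exact ⟨b, Prod.ext (h1'.trans h1.symm) (h2'.trans h2.symm)⟩
      · rw [h1, one_smul] at a
        have h1' : (cf (col (θ p))).1 = 1 := by
          rcases hnorm (col (θ p)) with ⟨h, -⟩ | h
          · rw [h, zero_smul] at a; exact absurd a hv1
          · exact h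
        rw [h1', one_smul] at a
        rw [a] at b
        exact ⟨a, Prod.ext (h1'.trans h1.symm) (smul_left_injective K hv2 b).symm⟩
    exact ⟨hcfinj key.2, key.1⟩
  have hid := hcol θ fun p hp => (hstep p hp).1
  have hd : ∀ e ∈ E, (e⁻¹ * (g * e * g⁻¹)) • x = x := by
    intro e he
    by_cases h1 : e ∈ E1
    · exact hd1 e h1
    obtain ⟨p, hp⟩ : ∃ p, p = ((⟨e, he⟩ : E) : E ⧸ E1.subgroupOf E) := ⟨_, rfl⟩
    have hp1 : p ≠ 1 := fun h => h1 (by
      rw [hp, QuotientGroup.eq_one_iff] at h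
      exact h)
    obtain ⟨o, ho⟩ : ∃ o, o = ((p.out : E) : A) := ⟨_, rfl⟩
    have h2 := (hstep p hp1).2
    rw [hid p, ← ho] at h2
    have hoE : o ∈ E := ho ▸ p.out.2
    have hw1 : o⁻¹ * e ∈ E1 := by
      have := QuotientGroup.eq.1 ((QuotientGroup.out_eq' p).trans hp)
      rw [ho]; exact this
    have hu : (o⁻¹ * (g * o * g⁻¹)) • x = x := by rw [mul_smul, h2, inv_smul_smul]
    have huM : o⁻¹ * (g * o * g⁻¹) ∈ M :=
      hM.2 ⟨mul_mem (inv_mem hoE) (hx.normal.conj_mem o hoE g), 1, by rw [hu, one_smul]⟩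
    have h3 := hMC _ huM _ hw1
    have e4 : e⁻¹ * (g * e * g⁻¹) =
        (o⁻¹ * (g * o * g⁻¹)) * ((o⁻¹ * e)⁻¹ * (g * (o⁻¹ * e) * g⁻¹)) := by
      calc e⁻¹ * (g * e * g⁻¹)
          = (o⁻¹ * e)⁻¹ * ((o⁻¹ * (g * o * g⁻¹)) * (o⁻¹ * e)) *
            ((o⁻¹ * e)⁻¹ * (g * (o⁻¹ * e) * g⁻¹)) := by group
        _ = _ := by rw [h3, inv_mul_cancel_left]
    rw [e4, mul_smul, hd1 _ hw1, hu]
  have hcent : ∀ e ∈ E, g * e * g⁻¹ = e := by
    intro e he
    obtain ⟨u, hud⟩ : ∃ u, u = e⁻¹ * (g * e * g⁻¹) := ⟨_, rfl⟩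
    have huE : u ∈ E := hud ▸ mul_mem (inv_mem he) (hx.normal.conj_mem e he g)
    have hux : u • x = x := hud ▸ hd e he
    have huc : ∀ f ∈ E, f⁻¹ * u * f = u := by
      intro f hf'
      have h1 := hd (e * f) (mul_mem he hf')
      rw [show (e * f)⁻¹ * (g * (e * f) * g⁻¹) = f⁻¹ * u * f * (f⁻¹ * (g * f * g⁻¹)) by rw [hud]; group,
        mul_smul, hd f hf'] at h1
      have hz : f⁻¹ * u * f * u⁻¹ ∈ Z := by
        have := hx.inZ _ (inv_mem hf') u huE
        simpa using this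
      have h2 : (⟨_, hz⟩ : Z) = 1 := hfree _ x hx0 (by
        show (f⁻¹ * u * f * u⁻¹) • x = x
        rw [mul_smul, inv_smul_eq_iff.2 hux.symm, h1])
      exact mul_inv_eq_one.1 (congrArg Subtype.val h2)
    have huZ : u ∈ Z := hx.center_le u huE fun f hf' => by
      show u * f = f * u
      nth_rewrite 2 [← huc f hf']
      group
    have h3 : u = 1 := congrArg Subtype.val (hfree ⟨u, huZ⟩ x hx0 hux)
    rw [hud, inv_mul_eq_one] at h3
    exact h3.symm
  have hgC : g ∈ Subgroup.centralizer (Z : Set A) := Subgroup.mem_centralizer_iff.2 fun z hz => by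
    have h1 := hcent z (hx.le hz)
    nth_rewrite 1 [← h1]
    rw [inv_mul_cancel_right]
  have hgE : g ∈ E := hx.outside g hgC fun n hn => by
    rw [hcent n hn, mul_inv_cancel]; exact one_mem Z
  have hgZ : g ∈ Z := hx.center_le g hgE fun f hf' => by
    show g * f = f * g
    nth_rewrite 2 [← hcent f hf']
    rw [inv_mul_cancel_right]
  intro v
  have h1 : g = 1 := congrArg Subtype.val (hfree ⟨g, hgZ⟩ x hx0 hgx)
  rw [h1, one_smul]

omit [Field K] [Finite K] [Module K V] in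
/-- The quasi-primitive case. -/
theorem primitive3 [Nontrivial V] (hA : Group.IsSolvable A)
    (hf : ∀ a : A, (∀ x : V, a • x = x) → a = 1)
    (hfield : ∀ N : Subgroup A, N.Normal → (∀ x ∈ N, ∀ y ∈ N, Commute x y) →
      ∀ b ∈ imgRing V N, ∀ x : V, x ≠ 0 → b x = 0 → b = 0) : Base3 A V := by
  classical
  let P : Subgroup A → Prop := fun N => N.Normal ∧ ∀ x ∈ N, ∀ y ∈ N, Commute x y
  obtain ⟨Z, -, hZmax⟩ := (Set.toFinite {N | P N}).exists_le_maximal (a := ⊥)
    (show P ⊥ from ⟨inferInstance, fun x hx y _ => by rw [Subgroup.mem_bot.1 hx]; exact Commute.one_left y⟩)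
  obtain ⟨hZn, hZc⟩ := hZmax.prop
  haveI := hZn
  have hmax : MaxAb Z := fun N hN hNc hle => hZmax.2 (show P N from ⟨hN, hNc⟩) hle
  let τ := DistribMulAction.toAddMonoidEnd A V
  let R := imgRing V Z
  obtain ⟨v0, hv0⟩ := exists_ne (0 : V)
  haveI : Finite (AddMonoid.End V) := Finite.of_injective (fun f : AddMonoid.End V => (f : V → V))
    DFunLike.coe_injective
  haveI : Nontrivial R := ⟨⟨0, 1, fun h => hv0
    ((DFunLike.congr_fun (congrArg Subtype.val h) v0 : (0 : V) = v0).symm)⟩⟩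
  letI : CommRing R :=
    { (inferInstance : Ring R) with
      mul_comm := fun a b =>
        Subtype.ext (imgRing_comm hZc (a : AddMonoid.End V) a.2 (b : AddMonoid.End V) b.2 :) }
  haveI : NoZeroDivisors R := ⟨fun {a b} hab => by
    by_cases hb : b = 0
    · exact Or.inr hb
    left
    obtain ⟨x, hx⟩ : ∃ x, (b : AddMonoid.End V) x ≠ 0 := by
      by_contra h
      push Not at h
      exact hb (Subtype.ext (DFunLike.ext _ _ h))
    exact Subtype.ext (hfield Z hZn hZc a a.2 _ hx (DFunLike.congr_fun (congrArg Subtype.val hab) x))⟩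
  haveI : IsDomain R := NoZeroDivisors.to_isDomain R
  letI : Fintype R := Fintype.ofFinite R
  letI : Field R := Fintype.fieldOfDomain R
  let ι : Z →* R :=
    { toFun := fun z => ⟨τ z, mem_imgRing z.2⟩
      map_one' := Subtype.ext (map_one τ)
      map_mul' := fun a b => Subtype.ext (map_mul τ (a : A) b) }
  have hιsmul : ∀ (z : Z) (x : V), ι z • x = (z : A) • x := fun z x => rfl
  have hι : Function.Injective ι := fun a b h => by
    have h1 : ∀ x : V, (a : A) • x = (b : A) • x := fun x => by rw [← hιsmul, ← hιsmul, h]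
    exact Subtype.ext (inv_mul_eq_one.1 (hf ((b : A)⁻¹ * a) fun x => by
      rw [mul_smul, h1, inv_smul_smul])).symm
  by_cases hCZ : Subgroup.centralizer (Z : Set A) ≤ Z
  · haveI : IsCyclic Z := isCyclic_of_subgroup_isDomain ι hι
    obtain ⟨z, hz⟩ := IsCyclic.exists_generator (α := Z)
    refine ⟨![v0, (z : A) • v0, v0], fun g hg => ?_⟩
    have hg1 : g • v0 = v0 := hg 0
    have hg2 : g • (z : A) • v0 = (z : A) • v0 := hg 1
    have hfree : ∀ (w : Z), (w : A) • v0 = v0 → w = 1 := by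
      intro w hw
      refine hι ?_
      rw [map_one]
      by_contra hne
      have h1 : (ι w - 1) • v0 = 0 := by rw [sub_smul, one_smul, hιsmul, hw, sub_self]
      exact hv0 ((smul_eq_zero.1 h1).resolve_left (sub_ne_zero.2 hne))
    let w : Z := ⟨(z : A)⁻¹ * (g * z * g⁻¹), Z.mul_mem (Z.inv_mem z.2) (hZn.conj_mem z z.2 g)⟩
    have hw : w = 1 := hfree w (by
      show ((z : A)⁻¹ * (g * z * g⁻¹)) • v0 = v0
      rw [mul_smul, mul_smul, mul_smul, inv_smul_eq_iff.2 hg1.symm, hg2, inv_smul_smul])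
    have hgz : g * (z : A) = z * g := by
      have h1 : (z : A)⁻¹ * (g * z * g⁻¹) = 1 := congrArg Subtype.val hw
      rw [inv_mul_eq_one] at h1
      nth_rewrite 2 [h1]
      rw [inv_mul_cancel_right]
    have hgC : g ∈ Subgroup.centralizer (Z : Set A) := Subgroup.mem_centralizer_iff.2 fun y hy => by
      obtain ⟨i, hi⟩ := Subgroup.mem_zpowers_iff.1 (hz ⟨y, hy⟩)
      have h1 : (z : A) ^ i = y := by rw [← SubgroupClass.coe_zpow, hi]
      rw [← h1]
      exact ((show Commute g (z : A) from hgz).zpow_right i).eq.symm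
    intro x
    rw [show g = 1 from congrArg Subtype.val (hfree ⟨g, hCZ hgC⟩ hg1), one_smul]
  obtain ⟨E, hx, hEZ⟩ := exists_extra hA hZc hmax ι hι hCZ
  refine frame hf ι hι hιsmul (fun a k => ⟨⟨τ a * k * τ a⁻¹, imgRing_conj hZn a k.2⟩, fun v => ?_⟩)
    (fun g hg k x => ?_) hx hEZ
  · show a • (k : AddMonoid.End V) v = a • (k : AddMonoid.End V) (a⁻¹ • a • v)
    rw [inv_smul_smul]
  · have h1 : imgRing V Z ≤ Subring.centralizer {τ g} := by
      rw [imgRing, Subring.closure_le]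
      rintro _ ⟨z, hz, rfl⟩
      refine Subring.mem_centralizer_iff.2 fun t ht => ?_
      rw [Set.mem_singleton_iff.1 ht, ← map_mul, ← map_mul,
        ← Subgroup.mem_centralizer_iff.1 hg z hz]
    exact DFunLike.congr_fun (Subring.mem_centralizer_iff.1 (h1 k.2) (τ g) rfl) x

end Cfsg.Agent.Solv.Triple
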