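import Cfsg.Agent.Lib.Solv.Triple.Colour
import Cfsg.Agent.Lib.Solv.OddPair.Blocks

/-!
Modules with a system of blocks: three vectors.
-/

set_option autoImplicit false
set_option linter.unusedSectionVars false
set_option linter.style.haveILetI false
set_option linter.unusedSimpArgs false

namespace Cfsg.Agent.Solv.Triple

open Cfsg.Agent.Solv.OddPair (CR subAct cr_of_irred)
open scoped Pointwise

universe u v

/-- Adding one entry of a triple to another. -/
def colOp {W : Type v} [AddCommGroup W] (i j : Fin 3) (h : i ≠ j) : Equiv.Perm (Fin 3 → W) where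
  toFun t := Function.update t i (t i + t j)
  invFun t := Function.update t i (t i - t j)
  left_inv t := by
    simp only [Function.update_self, Function.update_of_ne h.symm, Function.update_idem,
      add_sub_cancel_right, Function.update_eq_self]
  right_inv t := by
    simp only [Function.update_self, Function.update_of_ne h.symm, Function.update_idem,
      sub_add_cancel, Function.update_eq_self]

/-- A base of three vectors gives five inequivalent ones. -/
theorem five_triples {H : Type u} {W : Type v} [Group H] [AddCommGroup W] [DistribMulAction H W]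
    [Nontrivial W] (hH : Group.IsSolvable H) (hb : Base3 H W) :
    ∃ d : Fin 5 → Fin 3 → W, ∀ i j, ∀ h : H, (∀ k, h • d i k = d j k) →
      i = j ∧ ∀ x : W, h • x = x := by
  classical
  obtain ⟨t0, ht0, hne⟩ : ∃ t0 : Fin 3 → W,
      (∀ a : H, (∀ i, a • t0 i = t0 i) → ∀ x : W, a • x = x) ∧ ∃ j, t0 j ≠ 0 := by
    obtain ⟨v, hv⟩ := hb
    by_cases h : ∃ j, v j ≠ 0
    · exact ⟨v, hv, h⟩
    · push Not at h
      obtain ⟨x, hx⟩ := exists_ne (0 : W)
      exact ⟨fun _ => x, fun a _ => hv a fun i => by rw [h i, smul_zero], 0, hx⟩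
  let Γ : Subgroup (Equiv.Perm (Fin 3 → W)) :=
    { carrier := {e | ∀ (h : H) t, e (h • t) = h • e t}
      one_mem' := fun h t => rfl
      mul_mem' := fun {e f} he hf h t => by
        show e (f (h • t)) = h • e (f t)
        rw [hf, he]
      inv_mem' := fun {e} he h t => by
        refine e.injective ?_
        rw [he]
        show e (e.symm (h • t)) = h • e (e.symm t)
        rw [Equiv.apply_symm_apply, Equiv.apply_symm_apply] }
  have hmem : ∀ (i j : Fin 3) (hij : i ≠ j), colOp (W := W) i j hij ∈ Γ := fun i j hij h t => by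
    funext k
    show Function.update (h • t) i ((h • t) i + (h • t) j) k = h • Function.update t i (t i + t j) k
    by_cases hk : k = i
    · subst hk; simp [smul_add]
    · simp [Function.update_of_ne hk]
  let S : Set Γ := {e | ∃ (i j : Fin 3) (hij : i ≠ j), (e : Equiv.Perm (Fin 3 → W)) = colOp i j hij}
  have hS : PerfectSet S := by
    rintro e ⟨i, j, hij, he⟩
    obtain ⟨k, hki, hkj⟩ : ∃ k : Fin 3, k ≠ i ∧ k ≠ j := by
      clear he hij
      revert i j; decide
    refine ⟨⟨_, hmem i k hki.symm⟩, ⟨i, k, hki.symm, rfl⟩, ⟨_, hmem k j hkj⟩, ⟨k, j, hkj, rfl⟩,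
      Subtype.ext ?_⟩
    rw [he]
    refine Equiv.ext fun t => funext fun l => ?_
    show Function.update t i (t i + t j) l = colOp i k hki.symm (colOp k j hkj
      ((colOp i k hki.symm).symm ((colOp k j hkj).symm t))) l
    simp only [colOp, Equiv.coe_fn_mk, Equiv.coe_fn_symm_mk]
    by_cases hli : l = i
    · subst hli
      simp [Function.update_of_ne hki, Function.update_of_ne hki.symm, Function.update_of_ne hkj,
        Function.update_of_ne hkj.symm, Function.update_of_ne hij.symm]
      abel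
    · by_cases hlk : l = k
      · subst hlk
        simp [Function.update_of_ne hki, Function.update_of_ne hki.symm, Function.update_of_ne hkj,
          Function.update_of_ne hkj.symm, Function.update_of_ne hij.symm]
      · simp [Function.update_of_ne hli, Function.update_of_ne hlk]
  have hmove : ∃ s ∈ S, s • t0 ≠ t0 := by
    obtain ⟨j, hj⟩ := hne
    obtain ⟨i, hij⟩ : ∃ i : Fin 3, i ≠ j := exists_ne j
    refine ⟨⟨_, hmem i j hij⟩, ⟨i, j, hij, rfl⟩, fun h => hj ?_⟩
    have h1 := congrFun h i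
    change Function.update t0 i (t0 i + t0 j) i = t0 i at h1
    rw [Function.update_self, add_eq_left] at h1
    exact h1
  obtain ⟨d, hd, hne'⟩ := five_inequivalent hH (fun γ h y => γ.2 h y) hS (x := t0)
    (fun a ha t => funext fun i => ht0 a (fun i => congrFun ha i) (t i)) hmove
  refine ⟨d, fun i j h hh => ?_⟩
  obtain rfl := hne' i j h (funext hh)
  refine ⟨rfl, ?_⟩
  obtain ⟨γ, hγ⟩ := hd i
  have h1 : h • t0 = t0 := by
    refine (γ : Equiv.Perm (Fin 3 → W)).injective ?_
    rw [γ.2 h t0]
    show h • (γ • t0) = γ • t0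
    rw [hγ]
    exact funext hh
  exact ht0 h fun k => congrFun h1 k

variable {A V : Type v} [Group A] [Finite A] [AddCommGroup V] [Finite V] [DistribMulAction A V]

/-- An orbit of independent subgroups with projections gives three vectors. -/
theorem base3_of_blocks {n : ℕ} (hP : PB3.{v} n) (hn : Nat.card V ≤ n + 1) (hA : Group.IsSolvable A)
    (hirr : ∀ U : AddSubgroup V, (∀ a : A, ∀ x ∈ U, a • x ∈ U) → U = ⊥ ∨ U = ⊤)
    (W0 : AddSubgroup V) (hW0 : W0 ≠ ⊥) (e : AddSubgroup V → AddMonoid.End V)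
    (he1 : ∀ W ∈ MulAction.orbit A W0, ∀ x ∈ W, e W x = x)
    (he0 : ∀ W ∈ MulAction.orbit A W0, ∀ W' ∈ MulAction.orbit A W0, W' ≠ W → ∀ x ∈ W', e W x = 0)
    (hmov : ∃ a : A, a • W0 ≠ W0) : Base3 A V := by
  classical
  haveI := hA
  haveI : Nontrivial W0 := (AddSubgroup.nontrivial_iff_ne_bot W0).2 hW0
  haveI : Fintype (MulAction.orbit A W0) := Fintype.ofFinite _
  have hmemorb : ∀ a : A, a • W0 ∈ MulAction.orbit A W0 := fun a => ⟨a, rfl⟩
  obtain ⟨H, hH⟩ : ∃ H, H = MulAction.stabilizer A W0 := ⟨_, rfl⟩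
  have hHW : ∀ (h : H), ∀ x ∈ W0, h • x ∈ W0 := fun h x hx => by
    change (h : A) • x ∈ W0
    have h1 : (h : A) • W0 = W0 := MulAction.mem_stabilizer_iff.1 (hH ▸ h.2)
    rw [← h1]
    exact AddSubgroup.smul_mem_pointwise_smul x (h : A) W0 hx
  letI := subAct W0 hHW
  have hirr0 : ∀ U : AddSubgroup W0, (∀ h : H, ∀ x ∈ U, h • x ∈ U) → U = ⊥ ∨ U = ⊤ := by
    intro U hU
    by_cases hU0 : U = ⊥
    · exact Or.inl hU0
    right
    let U' := U.map W0.subtype
    let Z := AddSubgroup.closure {y : V | ∃ (a : A), ∃ x ∈ U', a • x = y}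
    have hZ : Z = ⊤ := by
      refine (hirr Z fun a x hx => ?_).resolve_left ?_
      · have h1 : Z ≤ Z.comap (DistribMulAction.toAddMonoidEnd A V a) := by
          rw [AddSubgroup.closure_le]
          rintro _ ⟨b, y, hy, rfl⟩
          exact AddSubgroup.subset_closure ⟨a * b, y, hy, mul_smul a b y⟩
        exact h1 hx
      · intro hb
        refine hU0 ((AddSubgroup.eq_bot_iff_forall U).2 fun x hx => Subtype.ext ?_)
        have h1 : (x : V) ∈ Z := AddSubgroup.subset_closure ⟨1, x, ⟨x, hx, rfl⟩, one_smul A _⟩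
        rwa [hb, AddSubgroup.mem_bot] at h1
    have hle : Z ≤ U'.comap (e W0) := by
      rw [AddSubgroup.closure_le]
      rintro _ ⟨a, x, hx, rfl⟩
      change e W0 (a • x) ∈ U'
      obtain ⟨u, hu, rfl⟩ := hx
      by_cases ha : a • W0 = W0
      · have hm : a ∈ H := hH ▸ MulAction.mem_stabilizer_iff.2 ha
        have h1 : a • (u : V) = ((⟨a, hm⟩ : H) • u : W0) := rfl
        change e W0 (a • (u : V)) ∈ U'
        rw [h1, he1 W0 (MulAction.mem_orbit_self _) _ (SetLike.coe_mem _)]
        exact ⟨_, hU ⟨a, hm⟩ u hu, rfl⟩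
      · change e W0 (a • (u : V)) ∈ U'
        rw [he0 W0 (MulAction.mem_orbit_self _) (a • W0) (hmemorb a) ha _
          (AddSubgroup.smul_mem_pointwise_smul _ a W0 u.2)]
        exact U'.zero_mem
    refine eq_top_iff.2 fun x _ => ?_
    have h1 : e W0 (x : V) ∈ U' := hle (hZ ▸ AddSubgroup.mem_top (x : V))
    rw [he1 W0 (MulAction.mem_orbit_self _) _ x.2] at h1
    obtain ⟨u, hu, h2⟩ := h1
    rwa [← Subtype.ext h2]
  obtain ⟨a1, ha1⟩ := hmov
  have hne_top : W0 ≠ ⊤ := by
    intro h
    obtain ⟨⟨x, hx⟩, hx0⟩ := exists_ne (0 : W0)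
    refine hx0 (Subtype.ext ?_)
    have h1 := AddSubgroup.smul_mem_pointwise_smul x a1 W0 hx
    have h2 := he0 W0 (MulAction.mem_orbit_self _) (a1 • W0) (hmemorb a1) ha1 _ h1
    rw [he1 W0 (MulAction.mem_orbit_self _) _ (h ▸ AddSubgroup.mem_top _), smul_eq_zero_iff_eq] at h2
    exact h2
  have hcard0 : Nat.card W0 ≤ n := by
    have h1 : Nat.card W0 ≠ Nat.card V := fun h => hne_top (AddSubgroup.eq_top_of_card_eq _ h)
    have h2 : Nat.card W0 ≤ Nat.card V := Finite.card_subtype_le _
    omega
  obtain ⟨d, hd⟩ := five_triples (H := H) (W := W0) inferInstance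
    (hP H W0 inferInstance (cr_of_irred hirr0) hcard0)
  have hpick : ∀ W : MulAction.orbit A W0, ∃ x : V, x ∈ (W : AddSubgroup V) ∧ x ≠ 0 := by
    rintro ⟨_, a, rfl⟩
    obtain ⟨⟨x, hx⟩, hx0⟩ := exists_ne (0 : W0)
    exact ⟨a • x, AddSubgroup.smul_mem_pointwise_smul x a W0 hx,
      fun h => hx0 (Subtype.ext ((smul_eq_zero_iff_eq a).1 h))⟩
  choose pick hpick1 hpick2 using hpick
  have hm : Nat.card (MulAction.orbit A W0) ≤ n := by
    have h1 : Nat.card (MulAction.orbit A W0) < Nat.card V := by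
      have hinj : Function.Injective pick := fun W W' h => by
        by_contra hne
        refine hpick2 W ?_
        rw [← he1 _ W.2 _ (hpick1 W), h]
        exact he0 _ W.2 _ W'.2 (fun e => hne (Subtype.ext e.symm)) _ (hpick1 W')
      haveI := Fintype.ofFinite V
      rw [Nat.card_eq_fintype_card, Nat.card_eq_fintype_card]
      exact Fintype.card_lt_of_injective_of_notMem pick hinj (b := 0)
        (by rintro ⟨W, hW⟩; exact hpick2 W hW)
    omega
  obtain ⟨col, hcol⟩ := colour_of hP _ hm A (MulAction.orbit A W0) hA rfl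
  choose t ht' using fun W : MulAction.orbit A W0 => (W.2 : ∃ a : A, a • W0 = W)
  have ht : ∀ W : MulAction.orbit A W0, t W • W0 = (W : AddSubgroup V) := ht'
  refine ⟨fun k => ∑ W, t W • ((d (col W) k : W0) : V), fun a hfix => ?_⟩
  have hterm : ∀ (f : MulAction.orbit A W0 → W0), a • (∑ W, t W • (f W : V)) = ∑ W, t W • (f W : V) →
      ∀ W, a • t W • (f W : V) = t (a • W) • (f (a • W) : V) := by
    intro f hf W
    have hin : ∀ W : MulAction.orbit A W0, t W • (f W : V) ∈ (W : AddSubgroup V) := fun W => by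
      exact ht W ▸ AddSubgroup.smul_mem_pointwise_smul _ (t W) _ (f W).2
    have h1 := congrArg (e ((a • W : MulAction.orbit A W0) : AddSubgroup V)) hf
    rw [Finset.smul_sum, map_sum, map_sum, Finset.sum_eq_single W, Finset.sum_eq_single (a • W)] at h1
    · rw [he1 _ (a • W).2 _ (hin _)] at h1
      rw [he1 _ (a • W).2] at h1
      · exact h1
      · exact AddSubgroup.smul_mem_pointwise_smul _ a _ (hin W)
    · exact fun W' _ hne => he0 _ (a • W).2 _ W'.2 (fun h => hne (Subtype.ext h)) _ (hin W')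
    · exact fun h => absurd (Finset.mem_univ _) h
    · intro W' _ hne
      exact he0 _ (a • W).2 _ (a • W').2 (fun h => hne (MulAction.injective a (Subtype.ext h))) _
        (AddSubgroup.smul_mem_pointwise_smul _ a _ (hin W'))
    · exact fun h => absurd (Finset.mem_univ _) h
  have hmH : ∀ W : MulAction.orbit A W0, (t (a • W))⁻¹ * (a * t W) ∈ H := fun W => by
    rw [hH, MulAction.mem_stabilizer_iff, mul_smul, mul_smul, ht, inv_smul_eq_iff, ht]
    rfl
  have hmap : ∀ W k, (⟨_, hmH W⟩ : H) • d (col W) k = d (col (a • W)) k := fun W k => Subtype.ext (by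
    show ((t (a • W))⁻¹ * (a * t W)) • (d (col W) k : V) = _
    rw [mul_smul, mul_smul, hterm (fun W => d (col W) k) (hfix k) W, inv_smul_smul])
  have hfixW := hcol a fun W => (hd _ _ _ (hmap W)).1.symm
  have hblock : ∀ W : MulAction.orbit A W0, ∀ x : W0, a • t W • (x : V) = t W • (x : V) := by
    intro W x
    have h3 := (hd _ _ _ (hmap W)).2 x
    have h4 : ((t (a • W))⁻¹ * (a * t W)) • (x : V) = x := congrArg Subtype.val h3
    rw [hfixW W, mul_smul, mul_smul, inv_smul_eq_iff] at h4
    exact h4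
  intro x
  let Z : AddSubgroup V := AddSubgroup.closure {y : V | ∃ W : MulAction.orbit A W0, y ∈ (W : AddSubgroup V)}
  have hZ : Z = ⊤ := by
    refine (hirr Z fun b y hy => ?_).resolve_left fun hb' => ?_
    · have h1 : Z ≤ Z.comap (DistribMulAction.toAddMonoidEnd A V b) := by
        rw [AddSubgroup.closure_le]
        rintro z ⟨W, hz⟩
        exact AddSubgroup.subset_closure ⟨b • W, AddSubgroup.smul_mem_pointwise_smul z b _ hz⟩
      exact h1 hy
    · have W1 : MulAction.orbit A W0 := ⟨W0, MulAction.mem_orbit_self _⟩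
      have h1 : pick W1 ∈ Z := AddSubgroup.subset_closure ⟨W1, hpick1 W1⟩
      rw [hb', AddSubgroup.mem_bot] at h1
      exact hpick2 W1 h1
  have hle : Z ≤ AddMonoidHom.eqLocus (DistribMulAction.toAddMonoidEnd A V a) (AddMonoidHom.id V) := by
    rw [AddSubgroup.closure_le]
    rintro y ⟨W, hy⟩
    rw [← ht W, AddSubgroup.mem_smul_pointwise_iff_exists] at hy
    obtain ⟨z, hz, rfl⟩ := hy
    exact hblock W ⟨z, hz⟩
  exact hle (hZ ▸ AddSubgroup.mem_top x)

end Cfsg.Agent.Solv.Triple
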